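import Cfsg.Agent.H67.ThSchur.Twist
import Cfsg.Agent.H67.ThSchur.CertC.Data
import Cfsg.Agent.H67.ThSchur.CertG.Data

/-!
The two coset tables applied to a normalised pair: all relators hold exactly.
-/

set_option autoImplicit false
set_option linter.unusedSectionVars false
set_option maxRecDepth 20000

namespace H67.ThSchur

open Cfsg H22Th
open H77.HN (evw agree)
open H52.TCert

/-- a word is a rotation of a base word or of its inverse, or a trivial one -/
def covered (f : ℕ → ℕ) (base : List (List ℕ)) (w : List ℕ) : Bool :=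
  w == [] || (w.length == 2 && f (w.getD 0 0) == w.getD 1 0) ||
    base.any fun b => (List.range (b.length + 1)).any fun i =>
      w == b.rotate i || w == (b.reverse.map f).rotate i

theorem prod_of_covered {K : Type*} [Group K] {e : ℕ → K} {f : ℕ → ℕ}
    (hinv : ∀ g, e (f g) = (e g)⁻¹) {base : List (List ℕ)}
    (hb : ∀ b ∈ base, (b.map e).prod = 1) {w : List ℕ} (h : covered f base w = true) :
    (w.map e).prod = 1 := by
  simp only [covered, Bool.or_eq_true, beq_iff_eq, Bool.and_eq_true, List.any_eq_true,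
    List.mem_range] at h
  rcases h with (rfl | ⟨hlen, hf⟩) | ⟨b, hb', i, -, rfl | rfl⟩
  · simp
  · match w, hlen with
    | [g, g'], _ =>
      simp only [List.getD_cons_zero, List.getD_cons_succ] at hf
      subst hf
      simp [hinv]
  · rw [List.map_rotate]; exact Cert.prod_rotate_eq_one (hb b hb') i
  · rw [List.map_rotate]
    refine Cert.prod_rotate_eq_one ?_ i
    have : (e ∘ f) = fun g => (e g)⁻¹ := funext hinv
    rw [List.map_map, this, List.map_reverse,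
      show (List.map (fun g => (e g)⁻¹) b) = (b.map e).map Inv.inv by simp [List.map_map, Function.comp_def],
      ← List.prod_inv_reverse, hb b hb', inv_one]

/-- a word read along a path at the base coset lies in the subgroup -/
theorem mem_of_path {K : Type*} [Group K] {C : Cert} {e : ℕ → K} {H : Subgroup K} {par : ℕ → ℕ}
    (V : C.Valid e H) (hf : (List.range C.num).all (C.checkFact par) = true) {rs w : List ℕ}
    (hw : C.walk C.num rs 0 = some (0, w)) : (w.map e).prod ∈ H := by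
  rw [List.all_eq_true] at hf
  have hall : ∀ k, k < C.num → Cert.Holds C par e H k := by
    intro k
    refine Nat.strong_induction_on (p := fun k => k < C.num → Cert.Holds C par e H k) k ?_
    intro m ih hm
    exact Cert.checkFact_holds V (fun i hi => ih i hi (hi.trans hm)) (hf m (List.mem_range.mpr hm))
  have h := Cert.walk_holds V hall rs 0 0 w hw
  rw [Cert.pt_zero] at h
  have h2 : (((((w.map e).prod)⁻¹ * 1 : K)) : K ⧸ H) = ((1 : K) : K ⧸ H) := h
  rw [QuotientGroup.eq] at h2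
  simpa using h2

/-- products over `P` of letters of the tables -/
theorem prod_P {Γ : Type*} [Group Γ] (ψ : P →* Γ) {e : ℕ → Γ} {m : ℕ → ℕ} {n : ℕ}
    (hm : ∀ l < n, e l = ψ (gen (m l))) {w : List ℕ} (hw : ∀ l ∈ w, l < n)
    (h : agree Tact B819 (w.map m).reverse [] = true) : (w.map e).prod = 1 := by
  have e1 : ∀ v : List ℕ, (∀ l ∈ v, l < n) → (v.map e).prod = ψ (evw gen (v.map m).reverse) := by
    intro v
    induction v with
    | nil => simp
    | cons l v ih =>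
      intro hv
      simp only [List.mem_cons, forall_eq_or_imp] at hv
      simp [ih hv.2, hm l hv.1]
  rw [e1 w hw, pEq _ _ h]
  simp

variable {Γ : Type*} [Group Γ] {σ : Γ →* Gth} {ψ : P →* Γ} {U : Γ}

/-- the relator codes in `Γ` -/
def cod (ψ : P →* Γ) (U : Γ) : ℕ → Γ
  | 0 => U
  | 1 => U⁻¹
  | 2 => ψ (x 0)
  | 3 => ψ (x 1)
  | 4 => ψ (x 2)
  | 5 => ψ (x 3)
  | 6 => ψ (x 4)
  | 7 => ψ (x 5)
  | 8 => (ψ (x 5))⁻¹
  | 9 => ψ (x 6)
  | 10 => (ψ (x 6))⁻¹
  | _ => 1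

/-- value of a relator word -/
def wd (ψ : P →* Γ) (U : Γ) (w : List ℕ) : Γ := (w.map (cod ψ U)).prod

theorem sigma_cod (G : Good σ ψ U) (l : ℕ) : σ (cod ψ U l) = H93.Th.code l := by
  match l with
  | 0 | 1 | 2 | 3 | 4 | 5 | 6 | 7 | 8 | 9 | 10 =>
    simp [cod, H93.Th.code, G.lifts, G.hU, iota_x, thImg, thX_eq]
  | n + 11 => simp [cod, H93.Th.code]

theorem sigma_wd (G : Good σ ψ U) {w : List ℕ} (hw : w ∈ H93.Th.urels) : σ (wd ψ U w) = 1 := by
  rw [wd, map_list_prod, List.map_map, ← H93.Th.urels_one hw]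
  congr 1
  exact List.map_congr_left fun l _ => sigma_cod G l

/-- an element of the copy of `P` over 1 is trivial -/
theorem eq_one_of_range (G : Good σ ψ U) (hinj : Function.Injective iota) {k : Γ}
    (hk : k ∈ ψ.range) (h : σ k = 1) : k = 1 := by
  obtain ⟨p, rfl⟩ := hk
  rw [G.lifts] at h
  rw [hinj (h.trans (map_one iota).symm), map_one]

def wW : List ℕ := [5, 6, 1, 5, 0, 5, 6, 1, 5, 0]
def wY : List ℕ :=
  [5, 1, 5, 3, 4, 2, 3, 5, 0, 5, 3, 2, 4, 3, 4, 6, 5, 1, 5, 3, 4, 2, 3, 6, 1]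
def wZ2 : List ℕ := [2, 4, 8, 1, 7, 0, 8, 1, 7, 0, 8, 1, 7, 0, 8, 1, 7, 0]
def wZ3 : List ℕ :=
  [5, 8, 8, 0, 7, 7, 5, 8, 8, 0, 7, 7, 5, 8, 8, 0, 7, 7, 5, 8, 8, 0, 7, 7, 8, 8, 6, 5, 4, 5, 6,
    7, 7, 7, 6, 5, 4, 5, 6, 8, 5, 4, 5, 4, 2]

/-- letters c d e s s⁻¹ t t⁻¹ u u⁻¹ and three central letters -/
def lettC (ψ : P →* Γ) (U : Γ) : ℕ → Γ
  | 0 => ψ (x 2)
  | 1 => ψ (x 3)
  | 2 => ψ (x 4)
  | 3 => ψ (x 5)
  | 4 => (ψ (x 5))⁻¹
  | 5 => ψ (x 6)
  | 6 => (ψ (x 6))⁻¹
  | 7 => U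
  | 8 => U⁻¹
  | 9 => wd ψ U wZ2
  | 10 => (wd ψ U wZ2)⁻¹
  | 11 => wd ψ U wW
  | 12 => (wd ψ U wW)⁻¹
  | 13 => wd ψ U wZ3
  | 14 => (wd ψ U wZ3)⁻¹
  | _ => 1

/-- relators of the first table inside `P` -/
def baseCP : List (List ℕ) :=
  [[0, 1, 0, 1, 0, 1, 0, 1, 2, 0, 1, 0, 1, 0, 1, 0, 1, 2],
   [0, 1, 0, 1, 0, 1, 0, 1, 0, 1, 0, 1, 0, 1, 0, 1],
   [0, 2, 0, 2], [1, 2, 1, 2, 1, 2], [3, 3, 3, 3, 3, 3, 3],
   [4, 0, 1, 0, 1, 0, 1, 0, 1, 3, 0, 1, 0, 1, 0, 1, 0, 1],
   [4, 0, 3, 0], [3, 1, 3, 1], [2, 4, 2, 3, 4, 4, 4, 2, 3, 3, 3], [5, 5, 5], [6, 0, 5, 0],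
   [6, 1, 5, 1], [6, 2, 5, 2], [6, 3, 5, 4, 4],
   [0, 1, 0, 1, 0, 1, 0, 1, 0, 0, 1, 0, 1, 0, 1, 0, 1, 0], [0, 0], [1, 1], [2, 2]]

/-- relators of the first table with `u` -/
def baseCU : List (List ℕ) :=
  [[8, 0, 1, 0, 1, 0, 1, 0, 1, 7, 0, 1, 0, 1, 0, 1, 0, 1], [8, 0, 7, 0], [8, 2, 7, 2],
   [8, 5, 7, 5], [2, 4, 4, 8, 3, 3, 2, 4, 4, 7, 3, 3], [7, 7, 4, 8, 4, 8, 4, 8],
   [0, 1, 0, 1, 0, 1, 0, 1, 0, 4, 8, 3, 7, 4, 8, 3, 7, 4, 8, 3, 7, 4, 8, 3, 7, 10],
   [1, 2, 8, 1, 7, 1, 2, 8, 1, 7, 12],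
   [1, 4, 4, 7, 3, 3, 1, 4, 4, 7, 3, 3, 1, 4, 4, 7, 3, 3, 1, 4, 4, 7, 3, 3, 4, 4, 2, 1, 0, 1, 2,
    3, 3, 3, 2, 1, 0, 1, 2, 4, 1, 0, 1, 0, 0, 1, 0, 1, 0, 1, 0, 1, 14]]

/-- commutations of the first table -/
def baseCC : List (List ℕ) :=
  [9, 11, 13].flatMap fun k => [(0, 0), (1, 1), (2, 2), (3, 4), (5, 6), (7, 8)].map fun g =>
    [k + 1, g.2, k, g.1]

theorem comm_word {a b : Γ} (h : Commute a b) : a⁻¹ * (b⁻¹ * (a * b)) = 1 := by
  rw [h.eq]; group

theorem comm_invol {a b : Γ} (h : Commute a b) (hb : b * b = 1) : a⁻¹ * (b * (a * b)) = 1 := by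
  rw [h.eq, ← mul_assoc b b a, hb, one_mul, inv_mul_cancel]

theorem wd_uf (G : Good σ ψ U) : ∀ g, g = ψ fEl →
    ψ (x 4) * ((ψ (x 5))⁻¹ * ((ψ (x 5))⁻¹ * (U⁻¹ * (ψ (x 5) * (ψ (x 5) * (ψ (x 4) *
      ((ψ (x 5))⁻¹ * ((ψ (x 5))⁻¹ * (U * (ψ (x 5) * ψ (x 5))))))))))) = 1 := by
  intro g _
  have h := G.uf
  have h2 : ψ fEl * ψ fEl = 1 := by rw [← map_mul, ff, map_one]
  simp only [fEl, map_mul, map_inv] at h h2
  have ee : ψ (x 4) * ψ (x 4) = 1 := by rw [← map_mul, rels_x.ee, map_one]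
  calc _ = (ψ (x 5) * ψ (x 5))⁻¹ * ((ψ (x 5) * ψ (x 5) * ψ (x 4) * (ψ (x 5))⁻¹ * (ψ (x 5))⁻¹) *
        (U⁻¹ * (ψ (x 5) * ψ (x 5) * ψ (x 4) * (ψ (x 5))⁻¹ * (ψ (x 5))⁻¹) * U)) *
        (ψ (x 5) * ψ (x 5)) := by group
    _ = 1 := by rw [h, h2, mul_one, inv_mul_cancel]

theorem validC (hx : Ext σ) (G : Good σ ψ U) : CertC.cert.Valid (lettC ψ U) ψ.range := by
  have hinv : ∀ g, lettC ψ U (CertC.cert.flip g) = (lettC ψ U g)⁻¹ := by
    have hc : ψ (x 2) * ψ (x 2) = 1 := by rw [← map_mul, rels_x.cc, map_one]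
    have hd : ψ (x 3) * ψ (x 3) = 1 := by rw [← map_mul, rels_x.dd, map_one]
    have he : ψ (x 4) * ψ (x 4) = 1 := by rw [← map_mul, rels_x.ee, map_one]
    intro g
    match g with
    | 0 | 1 | 2 =>
      simp [lettC, CertC.cert, Cert.flip, inv_eq_of_mul_eq_one_left hc,
        inv_eq_of_mul_eq_one_left hd, inv_eq_of_mul_eq_one_left he]
    | 3 | 4 | 5 | 6 | 7 | 8 | 9 | 10 | 11 | 12 | 13 | 14 | 15 =>
      simp [lettC, CertC.cert, Cert.flip]
    | k + 16 => simp [lettC, CertC.cert, Cert.flip]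
  refine ⟨rfl, hinv, fun w hw => ?_, ?_⟩
  · refine prod_of_covered hinv (base := baseCP ++ baseCU ++ baseCC) ?_ ?_
    · intro b hb
      simp only [List.mem_append] at hb
      rcases hb with (hb | hb) | hb
      · refine prod_P ψ (m := fun l => [2, 3, 4, 6, 5, 8, 7].getD l 0) (n := 7) ?_ ?_ ?_
        · intro l hl
          interval_cases l <;> simp [lettC, gen2, gen3, gen4, gen5, gen6, gen7, gen8]
        · exact fun l hl => of_decide_eq_true (List.all_eq_true.mp (List.all_eq_true.mp (by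
            decide +kernel : baseCP.all (fun b => b.all (fun l => decide (l < 7))) = true) b hb) l hl)
        · exact List.all_eq_true.mp (by decide +kernel : baseCP.all (fun b =>
            agree Tact B819 (b.map fun l => [2, 3, 4, 6, 5, 8, 7].getD l 0).reverse []) = true) b hb
      · have hA : ψ (x 0) = (ψ (x 2) * ψ (x 3)) ^ 4 := by
          rw [← map_mul, ← map_pow, ← rels_x.acd]
        have hA1 : (ψ (x 0))⁻¹ = ψ (x 0) := by
          rw [← map_inv, inv_eq_of_mul_eq_one_left rels_x.aa]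
        have hac : ψ (x 2) * ψ (x 2) = 1 := by rw [← map_mul, rels_x.cc, map_one]
        have haa : ψ (x 0) * ψ (x 0) = 1 := by rw [← map_mul, rels_x.aa, map_one]
        have hee : ψ (x 4) * ψ (x 4) = 1 := by rw [← map_mul, rels_x.ee, map_one]
        simp only [baseCU, List.mem_cons, List.not_mem_nil, or_false] at hb
        rcases hb with rfl | rfl | rfl | rfl | rfl | rfl | rfl | rfl | rfl
        · have h : U⁻¹ * ψ (x 0) * U * ψ (x 0) = 1 := by rw [G.ua, haa]
          rw [hA] at h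
          simpa [lettC, pow_succ, mul_assoc] using h
        · have h : U⁻¹ * ψ (x 2) * U * ψ (x 2) = 1 := by rw [G.uc, hac]
          simpa [lettC, mul_assoc] using h
        · have h : U⁻¹ * ψ (x 4) * U * ψ (x 4) = 1 := by rw [G.ue, hee]
          simpa [lettC, mul_assoc] using h
        · have h : U⁻¹ * ψ (x 6) * U * ψ (x 6) = 1 := by rw [G.ut, inv_mul_cancel]
          simpa [lettC, mul_assoc] using h
        · simpa [lettC] using wd_uf G _ rfl
        · have h : U * U * ((U * ψ (x 5)) ^ 3)⁻¹ = 1 := by rw [← G.ratio, mul_inv_cancel]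
          simpa [lettC, pow_succ, mul_assoc] using h
        · have e : wd ψ U wZ2 = (([0, 1, 0, 1, 0, 1, 0, 1, 0, 4, 8, 3, 7, 4, 8, 3, 7, 4, 8, 3,
              7, 4, 8, 3, 7] : List ℕ).map (lettC ψ U)).prod := by
            simp [wd, wZ2, cod, lettC, hA, pow_succ, mul_assoc]
          rw [show ([0, 1, 0, 1, 0, 1, 0, 1, 0, 4, 8, 3, 7, 4, 8, 3, 7, 4, 8, 3, 7, 4, 8, 3, 7,
              10] : List ℕ) = [0, 1, 0, 1, 0, 1, 0, 1, 0, 4, 8, 3, 7, 4, 8, 3, 7, 4, 8, 3, 7, 4,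
              8, 3, 7] ++ [10] from rfl, List.map_append, List.prod_append, ← e]
          simp [lettC]
        · have e : wd ψ U wW = (([1, 2, 8, 1, 7, 1, 2, 8, 1, 7] : List ℕ).map (lettC ψ U)).prod := by
            simp [wd, wW, cod, lettC]
          rw [show ([1, 2, 8, 1, 7, 1, 2, 8, 1, 7, 12] : List ℕ) =
            [1, 2, 8, 1, 7, 1, 2, 8, 1, 7] ++ [12] from rfl, List.map_append, List.prod_append, ← e]
          simp [lettC]
        · have e : wd ψ U wZ3 = (([1, 4, 4, 7, 3, 3, 1, 4, 4, 7, 3, 3, 1, 4, 4, 7, 3, 3, 1, 4, 4,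
              7, 3, 3, 4, 4, 2, 1, 0, 1, 2, 3, 3, 3, 2, 1, 0, 1, 2, 4, 1, 0, 1, 0, 0, 1, 0, 1, 0,
              1, 0, 1] : List ℕ).map (lettC ψ U)).prod := by
            simp [wd, wZ3, cod, lettC, hA, pow_succ, mul_assoc]
          rw [show ([1, 4, 4, 7, 3, 3, 1, 4, 4, 7, 3, 3, 1, 4, 4, 7, 3, 3, 1, 4, 4, 7, 3, 3, 4, 4,
              2, 1, 0, 1, 2, 3, 3, 3, 2, 1, 0, 1, 2, 4, 1, 0, 1, 0, 0, 1, 0, 1, 0, 1, 0, 1, 14]
              : List ℕ) = [1, 4, 4, 7, 3, 3, 1, 4, 4, 7, 3, 3, 1, 4, 4, 7, 3, 3, 1, 4, 4, 7, 3, 3,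
              4, 4, 2, 1, 0, 1, 2, 3, 3, 3, 2, 1, 0, 1, 2, 4, 1, 0, 1, 0, 0, 1, 0, 1, 0, 1, 0, 1]
              ++ [14] from rfl, List.map_append, List.prod_append, ← e]
          simp [lettC]
      · have hz : ∀ w ∈ [wZ2, wW, wZ3], ∀ g, Commute (wd ψ U w) g := by
          intro w hw
          refine hx.cent _ (sigma_wd G ?_)
          revert w; decide
        simp only [baseCC, List.mem_flatMap, List.mem_map, List.mem_cons, List.not_mem_nil,
          or_false] at hb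
        obtain ⟨k, hk, g, hg, rfl⟩ := hb
        have key : ∀ k' : ℕ, (∀ q, Commute (lettC ψ U k') q) → lettC ψ U (k' + 1) = (lettC ψ U k')⁻¹ →
            lettC ψ U g.2 = (lettC ψ U g.1)⁻¹ →
            (([k' + 1, g.2, k', g.1] : List ℕ).map (lettC ψ U)).prod = 1 := by
          intro k' hc h1 h2
          simp only [List.map_cons, List.map_nil, List.prod_cons, List.prod_nil, mul_one, h1, h2]
          exact comm_word (hc _)
        have hg2 : lettC ψ U g.2 = (lettC ψ U g.1)⁻¹ := by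
          have := hinv g.1
          rcases hg with rfl | rfl | rfl | rfl | rfl | rfl <;> simpa [CertC.cert, Cert.flip] using this
        rcases hk with rfl | rfl | rfl
        · exact key _ (hz wZ2 (by simp)) rfl hg2
        · exact key _ (hz wW (by simp)) rfl hg2
        · exact key _ (hz wZ3 (by simp)) rfl hg2
    · exact List.all_eq_true.mp (by decide +kernel : CertC.cert.rels.all
        (covered CertC.cert.flip (baseCP ++ baseCU ++ baseCC)) = true) w hw
  · intro g hg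
    simp only [CertC.cert, List.mem_cons, List.not_mem_nil, or_false] at hg
    rcases hg with rfl | rfl | rfl | rfl | rfl <;> exact ⟨_, rfl⟩

/-- what the first table gives -/
theorem exact_C (hx : Ext σ) (hinj : Function.Injective iota) (G : Good σ ψ U) :
    wd ψ U wZ2 = 1 ∧ wd ψ U wW = 1 ∧ wd ψ U wZ3 = 1 ∧ U * U = ψ (x 0) * ψ (x 2) ∧
      U⁻¹ * ψ qEl * U = ψ (qEl * x 4) := by
  have V := validC hx G
  have h0 := mem_of_path V CertC.cert_facts CertC.path0_walk
  have h1 := mem_of_path V CertC.cert_facts CertC.path1_walk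
  have h2 := mem_of_path V CertC.cert_facts CertC.path2_walk
  have h3 := mem_of_path V CertC.cert_facts CertC.path3_walk
  have h4 := mem_of_path V CertC.cert_facts CertC.path4_walk
  simp only [List.map_cons, List.map_nil, List.prod_cons, List.prod_nil, mul_one, lettC]
    at h0 h1 h2 h3 h4
  refine ⟨eq_one_of_range G hinj h0 (sigma_wd G (by decide)),
    eq_one_of_range G hinj h1 (sigma_wd G (by decide)),
    eq_one_of_range G hinj h2 (sigma_wd G (by decide)), ?_, ?_⟩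
  · have h : U * U * (ψ (x 0) * ψ (x 2))⁻¹ = 1 := by
      refine eq_one_of_range G hinj (mul_mem h4 (inv_mem (mul_mem ⟨_, rfl⟩ ⟨_, rfl⟩))) ?_
      simp [G.lifts, G.hU, iota_x, thImg, th_uu]
    exact mul_inv_eq_one.mp h
  · obtain ⟨z, m, -, hm, hq, hzm, y, hy⟩ := G.sign
    have hm1 : m = 1 := by
      refine eq_one_of_range G hinj ?_ hm
      have e : m = (ψ y)⁻¹ * (U⁻¹ * ψ mEl * U) := by rw [hy, inv_mul_cancel_left]
      rw [e]
      refine mul_mem (inv_mem ⟨_, rfl⟩) ?_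
      simpa [mEl, mul_assoc] using h3
    rw [hm1, mul_one] at hzm
    rw [hq, hzm, mul_one]

/-- letters a b c d e u u⁻¹ and one central letter -/
def lettG (ψ : P →* Γ) (U : Γ) : ℕ → Γ
  | 0 => ψ (x 0)
  | 1 => ψ (x 1)
  | 2 => ψ (x 2)
  | 3 => ψ (x 3)
  | 4 => ψ (x 4)
  | 5 => U
  | 6 => U⁻¹
  | 7 => wd ψ U wY
  | 8 => (wd ψ U wY)⁻¹
  | _ => 1

/-- relators of the second table inside `P` -/
def baseGP : List (List ℕ) :=
  [[0, 1, 0, 1, 0, 1], [0, 4, 0, 4], [1, 2, 1, 2, 1, 2], [1, 3, 1, 3], [1, 4, 1, 4],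
   [0, 3, 2, 3, 2, 3, 2, 3, 2], [2, 4, 2, 4], [3, 4, 3, 4, 3, 4],
   [1, 2, 3, 4, 1, 2, 3, 4, 1, 2, 3, 4, 1, 2, 3, 4, 1, 2, 3, 4, 1, 2, 3, 4, 1, 2, 3, 4, 1, 2, 3, 4],
   [0, 2, 0, 2], [0, 0], [1, 1], [2, 2], [3, 3], [4, 4]]

theorem exact_G (hx : Ext σ) (hinj : Function.Injective iota) (G : Good σ ψ U) :
    wd ψ U wY = 1 := by
  obtain ⟨-, hW, -, huu, huq⟩ := exact_C hx hinj G
  have sqP : ∀ i : Fin 7, x i * x i = 1 → ψ (x i) * ψ (x i) = 1 := fun i h => by
    rw [← map_mul, h, map_one]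
  have haa := sqP 0 rels_x.aa
  have hbb := sqP 1 rels_x.bb
  have hcc := sqP 2 rels_x.cc
  have hdd := sqP 3 rels_x.dd
  have hee := sqP 4 rels_x.ee
  have hinv : ∀ g, lettG ψ U (CertG.cert.flip g) = (lettG ψ U g)⁻¹ := by
    intro g
    match g with
    | 0 | 1 | 2 | 3 | 4 =>
      simp [lettG, CertG.cert, Cert.flip, inv_eq_of_mul_eq_one_left haa,
        inv_eq_of_mul_eq_one_left hbb, inv_eq_of_mul_eq_one_left hcc,
        inv_eq_of_mul_eq_one_left hdd, inv_eq_of_mul_eq_one_left hee]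
    | 5 | 6 | 7 | 8 | 9 => simp [lettG, CertG.cert, Cert.flip]
    | k + 10 => simp [lettG, CertG.cert, Cert.flip]
  have cy := hx.cent (wd ψ U wY) (sigma_wd G (by decide))
  have V : CertG.cert.Valid (lettG ψ U) ψ.range := by
    refine ⟨rfl, hinv, fun w hw => ?_, ?_⟩
    · refine prod_of_covered hinv (base := baseGP ++
        [[5, 5, 2, 0], [6, 0, 5, 0], [6, 2, 5, 2], [6, 4, 5, 4], [3, 4, 6, 3, 5, 3, 4, 6, 3, 5],
         [6, 1, 2, 0, 1, 5, 1, 0, 2, 1, 4],
         [3, 6, 3, 1, 2, 0, 1, 3, 5, 3, 1, 0, 2, 1, 2, 4, 3, 6, 3, 1, 2, 0, 1, 4, 6, 8],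
         [8, 1, 7, 1], [8, 2, 7, 2], [8, 3, 7, 3], [8, 4, 7, 4], [8, 6, 7, 5]]) ?_ ?_
      · intro b hb
        simp only [List.mem_append] at hb
        rcases hb with hb | hb
        · refine prod_P ψ (m := id) (n := 5) ?_ ?_ ?_
          · intro l hl
            interval_cases l <;> simp [lettG, gen0, gen1, gen2, gen3, gen4]
          · exact fun l hl => of_decide_eq_true (List.all_eq_true.mp (List.all_eq_true.mp (by
              decide +kernel : baseGP.all (fun b => b.all (fun l => decide (l < 5))) = true) b hb) l hl)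
          · exact List.all_eq_true.mp (by decide +kernel : baseGP.all (fun b =>
              agree Tact B819 (b.map id).reverse []) = true) b hb
        · simp only [List.mem_cons, List.not_mem_nil, or_false] at hb
          rcases hb with rfl | rfl | rfl | rfl | rfl | rfl | rfl | rfl | rfl | rfl | rfl | rfl
          · have h : U * U * (ψ (x 2) * ψ (x 0)) = 1 := by
              rw [huu]; simp [mul_assoc, ← mul_assoc (ψ (x 2)), hcc, haa]
            simpa [lettG, mul_assoc] using h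
          · have h : U⁻¹ * ψ (x 0) * U * ψ (x 0) = 1 := by rw [G.ua, haa]
            simpa [lettG, mul_assoc] using h
          · have h : U⁻¹ * ψ (x 2) * U * ψ (x 2) = 1 := by rw [G.uc, hcc]
            simpa [lettG, mul_assoc] using h
          · have h : U⁻¹ * ψ (x 4) * U * ψ (x 4) = 1 := by rw [G.ue, hee]
            simpa [lettG, mul_assoc] using h
          · simpa [wd, wW, cod, lettG] using hW
          · have hqi : (ψ qEl)⁻¹ = ψ qEl := by rw [← map_inv, inv_eq_of_mul_eq_one_left qq]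
            have h : U⁻¹ * (ψ qEl)⁻¹ * U * (ψ qEl * ψ (x 4)) = 1 := by
              rw [hqi, huq, ← map_mul, ← map_mul,
                show qEl * x 4 * (qEl * x 4) = qEl * (x 4 * qEl) * x 4 by group, eq_qe,
                ← mul_assoc, qq, one_mul, rels_x.ee, map_one]
            simp only [qEl, map_mul, mul_inv_rev, inv_eq_of_mul_eq_one_left haa,
              inv_eq_of_mul_eq_one_left hbb, inv_eq_of_mul_eq_one_left hcc] at h
            simpa [lettG, mul_assoc] using h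
          · have e : wd ψ U wY = (([3, 6, 3, 1, 2, 0, 1, 3, 5, 3, 1, 0, 2, 1, 2, 4, 3, 6, 3, 1, 2,
                0, 1, 4, 6] : List ℕ).map (lettG ψ U)).prod := by
              simp [wd, wY, cod, lettG]
            rw [show ([3, 6, 3, 1, 2, 0, 1, 3, 5, 3, 1, 0, 2, 1, 2, 4, 3, 6, 3, 1, 2, 0, 1, 4, 6,
                8] : List ℕ) = [3, 6, 3, 1, 2, 0, 1, 3, 5, 3, 1, 0, 2, 1, 2, 4, 3, 6, 3, 1, 2, 0,
                1, 4, 6] ++ [8] from rfl, List.map_append, List.prod_append, ← e]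
            simp [lettG]
          all_goals
            simp only [List.map_cons, List.map_nil, List.prod_cons, List.prod_nil, mul_one, lettG]
            first
              | exact comm_word (cy U)
              | exact comm_invol (cy _) hbb
              | exact comm_invol (cy _) hcc
              | exact comm_invol (cy _) hdd
              | exact comm_invol (cy _) hee
      · exact List.all_eq_true.mp (by decide +kernel : CertG.cert.rels.all
          (covered CertG.cert.flip _) = true) w hw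
    · intro g hg
      simp only [CertG.cert, List.mem_cons, List.not_mem_nil, or_false] at hg
      rcases hg with rfl | rfl | rfl | rfl | rfl <;> exact ⟨_, rfl⟩
  have h0 := mem_of_path V CertG.cert_facts CertG.path0_walk
  simp only [List.map_cons, List.map_nil, List.prod_cons, List.prod_nil, mul_one, lettG] at h0
  exact eq_one_of_range G hinj h0 (sigma_wd G (by decide))

end H67.ThSchur
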