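import Cfsg.Agent.H91.Th.Upper
import Cfsg.Agent.H93.Th.Twist
import Cfsg.Agent.H93.Th.Rho
import Cfsg.Agent.H22.Th.Pts
import Cfsg.Agent.H22.Th.Simple

/-!
The presented Thompson group is finite: the group of the subgroup generated by a, ..., t is
finite and the cosets of that subgroup fall into eleven finite orbits.
-/

set_option autoImplicit false

namespace H67.ThSchur

open H22Th in
theorem finite_Th : Finite Cfsg.Spor.Th := by
  have : Finite P := Nat.finite_of_card_ne_zero (by rw [card_P]; norm_num)
  obtain ⟨q, St, -, -, hc⟩ := H91.Th.orbits rep17199 card_P.le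
    (H93.Th.twist_dcd H93.Th.rho H93.Th.rho_of)
  let f : Fin 11 × P → Cfsg.Spor.Th ⧸ iota.range := fun x => iota x.2 • q x.1
  have hf : Function.Surjective f := fun c => by
    obtain ⟨i, n, h⟩ := hc c
    exact ⟨(i, n), h⟩
  have : Finite (Cfsg.Spor.Th ⧸ iota.range) := Finite.of_surjective f hf
  have : Finite iota.range := Finite.of_surjective _ iota.rangeRestrict_surjective
  exact Finite.of_subgroup_quotient iota.range

end H67.ThSchur
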