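import Cfsg.Agent.H22.Th.Model
import Cfsg.Agent.H22.Th.Member

/-!
A central extension of the presented Thompson group with divisible kernel contains an exact copy of
the relations (1), (2), (3), and an element over `u` inverting the lift of `t`.
-/

set_option autoImplicit false
set_option linter.unusedSectionVars false

namespace H67.ThSchur

open Cfsg H22Th
open H77.HN (evw agree)

abbrev Gth : Type := Cfsg.Spor.Th

/-- an equation between two words of `P`, checked on the base points -/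
theorem pEq (u v : List ℕ) (h : agree Tact B819 u v = true) : evw gen u = evw gen v :=
  rep.evw_eq_of_agree rep_isBase h

theorem gen0 : gen 0 = x 0 := by
  show (x 0)⁻¹ = x 0
  exact inv_eq_of_mul_eq_one_left rels_x.aa
theorem gen1 : gen 1 = x 1 := by
  show (x 1)⁻¹ = x 1
  exact inv_eq_of_mul_eq_one_left rels_x.bb
theorem gen2 : gen 2 = x 2 := by
  show (x 2)⁻¹ = x 2
  exact inv_eq_of_mul_eq_one_left rels_x.cc
theorem gen3 : gen 3 = x 3 := by
  show (x 3)⁻¹ = x 3
  exact inv_eq_of_mul_eq_one_left rels_x.dd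
theorem gen4 : gen 4 = x 4 := by
  show (x 4)⁻¹ = x 4
  exact inv_eq_of_mul_eq_one_left rels_x.ee
theorem gen5 : gen 5 = (x 5)⁻¹ := by simp [gen, lett]
theorem gen6 : gen 6 = x 5 := by simp [gen, lett]
theorem gen7 : gen 7 = (x 6)⁻¹ := by simp [gen, lett]
theorem gen8 : gen 8 = x 6 := by simp [gen, lett]

/-- the element conjugating `a` to `(bcde)^4` -/
def wg {H : Type*} [Group H] (a b c d e : H) : H := a * b * c * d * e * b * c * d * c * b

theorem conj_four_P :
    wg (x 0) (x 1) (x 2) (x 3) (x 4) * x 0 = (x 1 * x 2 * x 3 * x 4) ^ 4 * wg (x 0) (x 1) (x 2) (x 3) (x 4) := by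
  have h := pEq [0, 1, 2, 3, 2, 1, 4, 3, 2, 1, 0]
    [1, 2, 3, 2, 1, 4, 3, 2, 1, 0, 4, 3, 2, 1, 4, 3, 2, 1, 4, 3, 2, 1, 4, 3, 2, 1] (by decide +kernel)
  simp only [H77.HN.evw_cons, H77.HN.evw_nil, gen0, gen1, gen2, gen3, gen4, one_mul] at h
  simpa [wg, pow_succ, mul_assoc] using h

theorem conj_kick_P :
    x 1 * x 2 * x 1 * x 4 * wg (x 0) (x 1) (x 2) (x 3) (x 4) =
      wg (x 0) (x 1) (x 2) (x 3) (x 4) * x 3 := by
  have h := pEq [1, 2, 3, 2, 1, 4, 3, 2, 1, 0, 4, 1, 2, 1]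
    [3, 1, 2, 3, 2, 1, 4, 3, 2, 1, 0] (by decide +kernel)
  simp only [H77.HN.evw_cons, H77.HN.evw_nil, gen0, gen1, gen2, gen3, gen4, one_mul] at h
  simpa [wg, mul_assoc] using h

theorem conj_four : wg (thX .a) (thX .b) (thX .c) (thX .d) (thX .e) * thX .a =
    (thX .b * thX .c * thX .d * thX .e) ^ 4 * wg (thX .a) (thX .b) (thX .c) (thX .d) (thX .e) := by
  have h := congrArg iota conj_four_P
  simpa [wg, iota_x, thImg] using h

theorem conj_kick : thX .b * thX .c * thX .b * thX .e * wg (thX .a) (thX .b) (thX .c) (thX .d) (thX .e) =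
    wg (thX .a) (thX .b) (thX .c) (thX .d) (thX .e) * thX .d := by
  have h := congrArg iota conj_kick_P
  simpa [wg, iota_x, thImg] using h

variable {Γ : Type*} [Group Γ] {σ : Γ →* Gth}

/-- a central extension with divisible kernel -/
structure Ext (σ : Γ →* Gth) : Prop where
  surj : Function.Surjective σ
  cent : ∀ z, σ z = 1 → ∀ g, Commute z g
  root : ∀ z, σ z = 1 → ∀ n, 0 < n → ∃ w, σ w = 1 ∧ w ^ n = z

namespace Ext

variable (hx : Ext σ)
include hx

/-- equal images differ by a central element -/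
theorem split {p q : Γ} (h : σ p = σ q) : ∃ k, σ k = 1 ∧ p = q * k :=
  ⟨q⁻¹ * p, by rw [map_mul, map_inv, h, inv_mul_cancel], by group⟩

theorem mul_pow {k : Γ} (hk : σ k = 1) (p : Γ) (n : ℕ) : (p * k) ^ n = p ^ n * k ^ n :=
  ((hx.cent k hk p).symm).mul_pow n

theorem cancel {k : Γ} (p q : Γ) (h : p * q = p * q * k) : k = 1 :=
  (mul_eq_left.mp h.symm)

/-- lifts of commuting elements of coprime orders commute -/
theorem commute_of_coprime {p q : Γ} {n m : ℕ} (hnm : Nat.Coprime n m)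
    (hpq : σ p * σ q = σ q * σ p) (hp : σ p ^ n = 1) (hq : σ q ^ m = 1) : Commute p q := by
  obtain ⟨k, hk, e⟩ := hx.split (p := p * q) (q := q * p) (by rw [map_mul, map_mul, hpq])
  have ck := hx.cent k hk
  have h1 : ∀ i : ℕ, p ^ i * q = q * p ^ i * k ^ i := by
    intro i
    induction i with
    | zero => simp
    | succ i ih =>
      calc p ^ (i + 1) * q = p ^ i * (p * q) := by rw [pow_succ, mul_assoc]
        _ = p ^ i * q * (p * k) := by rw [e]; group
        _ = q * p ^ i * k ^ i * (p * k) := by rw [ih]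
        _ = q * (p ^ i * p) * (k ^ i * k) := by
          rw [show q * p ^ i * k ^ i * (p * k) = q * p ^ i * (k ^ i * p) * k by group,
            ((ck p).pow_left i).eq]
          group
        _ = q * p ^ (i + 1) * k ^ (i + 1) := by rw [pow_succ, pow_succ]
  have h2 : ∀ i : ℕ, p * q ^ i = q ^ i * p * k ^ i := by
    intro i
    induction i with
    | zero => simp
    | succ i ih =>
      calc p * q ^ (i + 1) = p * q ^ i * q := by rw [pow_succ, mul_assoc]
        _ = q ^ i * p * k ^ i * q := by rw [ih]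
        _ = q ^ i * (p * q) * k ^ i := by
          rw [show q ^ i * p * k ^ i * q = q ^ i * p * (k ^ i * q) by group, ((ck q).pow_left i).eq]
          group
        _ = q ^ i * q * p * (k * k ^ i) := by rw [e]; group
        _ = q ^ (i + 1) * p * k ^ (i + 1) := by rw [pow_succ, pow_succ' k]
  have hn : k ^ n = 1 := by
    have hc := hx.cent (p ^ n) (by rw [map_pow, hp]) q
    exact hx.cancel _ _ (hc.eq.symm.trans (h1 n))
  have hm : k ^ m = 1 := by
    have hc := hx.cent (q ^ m) (by rw [map_pow, hq]) p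
    exact hx.cancel _ _ (hc.eq.trans (h2 m))
  have : k = 1 := by
    have := pow_gcd_eq_one.mpr ⟨hn, hm⟩
    rwa [hnm, pow_one] at this
  rw [this, mul_one] at e
  exact e

end Ext

open H93.Th in
theorem u_t : (thX .u)⁻¹ * thX .t * thX .u = (thX .t)⁻¹ := twist_t

set_option maxHeartbeats 1600000 in
theorem exists_lift (hx : Ext σ) :
    ∃ ψ : P →* Γ, (∀ p, σ (ψ p) = iota p) ∧
      ∃ u : Γ, σ u = thX .u ∧ u⁻¹ * ψ (x 6) * u = (ψ (x 6))⁻¹ := by
  have r := rels_th
  have tt : ∀ g : Spor.Th.Gen, ∃ p, σ p = thX g := fun g => hx.surj _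
  -- t and an element over u
  obtain ⟨t0, ht0⟩ := tt .t
  obtain ⟨u, hu⟩ := tt .u
  obtain ⟨w, hw, hw3⟩ := hx.root (t0 ^ 3)⁻¹
    (by rw [map_inv, map_pow, ht0, r.t3, inv_one]) 3 (by norm_num)
  obtain ⟨t1, t1_def⟩ : ∃ y, y = t0 * w := ⟨_, rfl⟩
  have ht1 : σ t1 = thX .t := by simp [t1_def, ht0, hw]
  have t13 : t1 ^ 3 = 1 := by simp only [t1_def]; rw [hx.mul_pow hw, hw3, mul_inv_cancel]
  obtain ⟨k, hk, ek⟩ := hx.split (p := u⁻¹ * t1 * u) (q := t1⁻¹) (by simp [ht1, hu, u_t])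
  have k3 : k ^ 3 = 1 := by
    have h : (u⁻¹ * t1 * u) ^ 3 = (t1⁻¹ * k) ^ 3 := congrArg (fun z => z ^ 3) ek
    rw [hx.mul_pow hk, inv_pow, t13] at h
    have e3 : (u⁻¹ * t1 * u) ^ 3 = u⁻¹ * t1 ^ 3 * u := by simp [pow_succ, mul_assoc]
    rw [e3, t13] at h
    simpa using h.symm
  obtain ⟨T, T_def⟩ : ∃ y, y = t1 * k := ⟨_, rfl⟩
  have hT : σ T = thX .t := by simp [T_def, ht1, hk]
  have T3 : T ^ 3 = 1 := by simp only [T_def]; rw [hx.mul_pow hk, t13, k3, one_mul]
  have uT : u⁻¹ * T * u = T⁻¹ := by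
    have ck := (hx.cent k hk u).eq
    calc u⁻¹ * T * u = u⁻¹ * t1 * (k * u) := by simp [T_def, mul_assoc]
      _ = u⁻¹ * t1 * u * k := by rw [ck, ← mul_assoc]
      _ = t1⁻¹ * (k * k) := by rw [ek, mul_assoc]
      _ = t1⁻¹ * k⁻¹ := by
        rw [show k * k = k⁻¹ from eq_inv_of_mul_eq_one_left (by simpa [pow_succ] using k3)]
      _ = T⁻¹ := by rw [T_def, mul_inv_rev, (hx.cent k hk t1).inv_inv.eq]
  -- s
  obtain ⟨s0, hs0⟩ := tt .s
  obtain ⟨m, hm, em⟩ := hx.split (p := T⁻¹ * s0 * T) (q := s0 ^ 2) (by simp [hT, hs0, r.ts])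
  obtain ⟨S, S_def⟩ : ∃ y, y = s0 * m := ⟨_, rfl⟩
  have hS : σ S = thX .s := by simp [S_def, hs0, hm]
  have TS : T⁻¹ * S * T = S ^ 2 := by
    calc T⁻¹ * S * T = T⁻¹ * s0 * (m * T) := by simp [S_def, mul_assoc]
      _ = T⁻¹ * s0 * T * m := by rw [(hx.cent m hm T).eq, ← mul_assoc]
      _ = S ^ 2 := by rw [em, mul_assoc, ← pow_two, S_def, hx.mul_pow hm]
  have S7 : S ^ 7 = 1 := by
    have hc : T⁻¹ * S ^ 7 * T = S ^ 7 := by
      rw [mul_assoc, (hx.cent (S ^ 7) (by rw [map_pow, hS, r.s7]) T).eq, inv_mul_cancel_left]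
    have e7 : T⁻¹ * S ^ 7 * T = (T⁻¹ * S * T) ^ 7 := by
      simp [pow_succ, mul_assoc]
    rw [e7, TS, ← pow_mul, show 2 * 7 = 7 + 7 from rfl, pow_add] at hc
    exact mul_eq_left.mp hc
  -- lifts of involutions with square one
  have sq : ∀ {g : Spor.Th.Gen}, thX g * thX g = 1 → ∃ p, σ p = thX g ∧ p * p = 1 := by
    intro g hg
    obtain ⟨p, hp⟩ := tt g
    obtain ⟨v, hv, hv2⟩ := hx.root (p * p)⁻¹ (by rw [map_inv, map_mul, hp, hg, inv_one]) 2
      (by norm_num)
    refine ⟨p * v, by simp [hp, hv], ?_⟩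
    rw [← pow_two, hx.mul_pow hv, hv2, pow_two, mul_inv_cancel]
  have p2 : ∀ {g : Γ}, σ g * σ g = 1 → σ g ^ 2 = 1 := fun h => by rw [pow_two, h]
  -- e
  obtain ⟨e0, he0⟩ := tt .e
  obtain ⟨n, hn, en⟩ := hx.split (p := e0⁻¹ * S⁻¹ * e0 * S) (q := (S ^ 3)⁻¹ * e0 * S ^ 3)
    (by simp [he0, hS, r.es])
  obtain ⟨E, E_def⟩ : ∃ y, y = e0 * n := ⟨_, rfl⟩
  have hE : σ E = thX .e := by simp [E_def, he0, hn]
  have es : E⁻¹ * S⁻¹ * E * S = (S ^ 3)⁻¹ * E * S ^ 3 := by
    have c := hx.cent n hn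
    calc E⁻¹ * S⁻¹ * E * S = n⁻¹ * (e0⁻¹ * S⁻¹ * e0) * (n * S) := by simp [E_def, mul_assoc]
      _ = n⁻¹ * (e0⁻¹ * S⁻¹ * e0 * S) * n := by rw [(c S).eq]; simp [mul_assoc]
      _ = e0⁻¹ * S⁻¹ * e0 * S := by
        rw [(c (e0⁻¹ * S⁻¹ * e0 * S)).inv_left.eq]; simp [mul_assoc]
      _ = (S ^ 3)⁻¹ * e0 * (S ^ 3 * n) := by rw [en]; simp [mul_assoc]
      _ = (S ^ 3)⁻¹ * E * S ^ 3 := by rw [← (c (S ^ 3)).eq]; simp [E_def, mul_assoc]
  obtain ⟨ci, ci_def⟩ : ∃ f : ℕ → Γ → Γ, ∀ i p, f i p = (S ^ i)⁻¹ * p * S ^ i :=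
    ⟨fun i p => (S ^ i)⁻¹ * p * S ^ i, fun _ _ => rfl⟩
  have ci_mul : ∀ i p q, ci i (p * q) = ci i p * ci i q := fun i p q => by simp [ci_def, mul_assoc]
  have ci_ci : ∀ i j p, ci i (ci j p) = ci (j + i) p := fun i j p => by
    simp [ci_def, pow_add, mul_assoc]
  have ci_k : ∀ i z, σ z = 1 → ci i z = z := fun i z hz => by
    simp only [ci_def]; rw [mul_assoc, (hx.cent z hz (S ^ i)).eq, inv_mul_cancel_left]
  have ci_7 : ci 7 E = E := by simp [ci_def, S7]
  have E1 : ci 1 E = E * ci 3 E := by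
    simp only [ci_def, pow_one]
    rw [← es]; simp [mul_assoc]
  have hEE3 : σ (E * ci 3 E) = σ (ci 3 E * E) := by
    have e1 : σ (ci 1 E) * σ (ci 1 E) = 1 := by
      simp [ci_def, hE, hS, mul_assoc, r.ee, ← mul_assoc (thX Spor.Th.Gen.e) (thX Spor.Th.Gen.e)]
    have e0' : σ E * σ E = 1 := by rw [hE, r.ee]
    have e3 : σ (ci 3 E) * σ (ci 3 E) = 1 := by
      simp [ci_def, hE, hS, mul_assoc, r.ee, ← mul_assoc (thX Spor.Th.Gen.e) (thX Spor.Th.Gen.e)]
    rw [map_mul, map_mul]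
    rw [E1] at e1
    rw [map_mul] at e1
    rw [eq_inv_of_mul_eq_one_left e1, mul_inv_rev, ← eq_inv_of_mul_eq_one_left e0',
      ← eq_inv_of_mul_eq_one_left e3]
  obtain ⟨f, hf, ef⟩ := hx.split hEE3
  have EE1 : E * ci 1 E = ci 1 E * E * f := by
    rw [E1, mul_assoc E (ci 3 E) E, mul_assoc E _ f, ef]
  have EE4 : ci 4 E * E = E * ci 4 E * f := by
    have h := congrArg (ci 4) ef
    simp only [ci_mul, ci_ci, ci_k 4 f hf] at h
    rwa [ci_7] at h
  have E2 : ci 2 E = ci 1 E * ci 4 E := by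
    have h := congrArg (ci 1) E1
    simp only [ci_mul, ci_ci] at h
    exact h
  have EE2 : E * ci 2 E = ci 2 E * E := by
    rw [E2, ← mul_assoc, EE1, mul_assoc _ f, (hx.cent f hf (ci 4 E)).eq, ← mul_assoc,
      mul_assoc (ci 1 E) E, mul_assoc (ci 1 E), ← EE4, mul_assoc]
  have EE3 : E * ci 3 E = ci 3 E * E := by
    have h := congrArg (ci 1) EE2
    simp only [ci_mul, ci_ci] at h
    rw [show 2 + 1 = 3 from rfl, E1, ← mul_assoc (ci 3 E)] at h
    exact mul_right_cancel h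
  have ee : E * E = 1 := by
    have hz : σ (E * E) = 1 := by rw [map_mul, hE, r.ee]
    have h1 : ci 1 (E * E) = E * E := ci_k 1 _ hz
    have h3 : ci 3 (E * E) = E * E := ci_k 3 _ hz
    rw [ci_mul, E1] at h1
    rw [ci_mul] at h3
    rw [show E * ci 3 E * (E * ci 3 E) = E * (ci 3 E * E) * ci 3 E by group, ← EE3,
      show E * (E * ci 3 E) * ci 3 E = E * E * (ci 3 E * ci 3 E) by group, h3] at h1
    exact mul_eq_left.mp h1
  -- a commuting element of S commutes with E
  have withE : ∀ p : Γ, Commute p S → σ p * thX .e = thX .e * σ p → Commute p E := by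
    intro p hpS hpe
    obtain ⟨z, hz, ez⟩ := hx.split (p := p * E) (q := E * p) (by simp [hE, hpe])
    have key : ∀ i, p * ci i E = ci i E * p * z := by
      intro i
      have h := congrArg (ci i) ez
      have hp : ci i p = p := by
        simp only [ci_def]; rw [mul_assoc, (hpS.pow_right i).eq, inv_mul_cancel_left]
      rwa [ci_mul, ci_mul, ci_mul, hp, ci_k i z hz] at h
    have h1 := key 1
    rw [E1, ← mul_assoc, ez, mul_assoc _ z, (hx.cent z hz (ci 3 E)).eq, ← mul_assoc,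
      mul_assoc E p, key 3] at h1
    have : z = 1 := by
      have h2 : E * ci 3 E * p * z = E * ci 3 E * p * z * z := by
        simpa [mul_assoc] using h1.symm
      exact hx.cancel _ _ h2
    rw [this, mul_one] at ez
    exact ez
  -- d
  obtain ⟨D1, hD1, D1D1⟩ := sq r.dd
  obtain ⟨z, hz, ez⟩ : ∃ z, σ z = 1 ∧ (D1 * E) ^ 3 = z :=
    ⟨_, by rw [map_pow, map_mul, hD1, hE, r.de], rfl⟩
  have invD1 : D1⁻¹ = D1 := inv_eq_of_mul_eq_one_left D1D1
  have invE : E⁻¹ = E := inv_eq_of_mul_eq_one_left ee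
  have z2 : z * z = 1 := by
    have h : D1 * (D1 * E) ^ 3 * D1 = ((D1 * E) ^ 3)⁻¹ := by
      rw [← inv_pow, mul_inv_rev, invD1, invE]
      calc D1 * (D1 * E) ^ 3 * D1 = D1 * D1 * (E * D1) ^ 3 := by simp [pow_succ, mul_assoc]
        _ = (E * D1) ^ 3 := by rw [D1D1, one_mul]
    rw [ez, ← (hx.cent z hz D1).eq, mul_assoc, D1D1, mul_one] at h
    exact eq_inv_iff_mul_eq_one.mp h
  obtain ⟨D, D_def⟩ : ∃ y, y = D1 * z := ⟨_, rfl⟩
  have hD : σ D = thX .d := by simp [D_def, hD1, hz]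
  have dd : D * D = 1 := by
    simp only [D_def]; rw [← pow_two, hx.mul_pow hz, pow_two, pow_two, D1D1, z2, one_mul]
  have de : (D * E) ^ 3 = 1 := by
    have h : D * E = D1 * E * z := by simp only [D_def]; rw [mul_assoc, (hx.cent z hz E).eq, ← mul_assoc]
    rw [h, hx.mul_pow hz, ez, ← pow_succ', show 3 + 1 = 2 * 2 from rfl, pow_mul, pow_two z, z2,
      one_pow]
  have invD : D⁻¹ = D := inv_eq_of_mul_eq_one_left dd
  have ede : E * D * E = D * E * D := by
    have h : (D * E * D) * (E * D * E) = 1 := by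
      calc (D * E * D) * (E * D * E) = (D * E) ^ 3 := by simp [pow_succ, mul_assoc]
        _ = 1 := de
    rw [eq_inv_of_mul_eq_one_left h]
    simp [invD, invE, mul_assoc]
  have withD : ∀ p : Γ, Commute p E → σ p * thX .d = thX .d * σ p → Commute p D := by
    intro p hpE hpd
    obtain ⟨y, hy, ey⟩ := hx.split (p := p * D) (q := D * p) (by simp [hD, hpd])
    have c := hx.cent y hy
    have l : p * (E * D * E) = E * D * E * p * y := by
      calc p * (E * D * E) = E * (p * D) * E := by rw [← mul_assoc, ← mul_assoc, hpE.eq, mul_assoc E p]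
        _ = E * D * p * (y * E) := by rw [ey]; simp [mul_assoc]
        _ = E * D * (p * E) * y := by rw [(c E).eq]; simp [mul_assoc]
        _ = E * D * E * p * y := by rw [hpE.eq]; simp [mul_assoc]
    have rr : p * (D * E * D) = D * E * D * p * y * y := by
      calc p * (D * E * D) = D * p * (y * E) * D := by rw [← mul_assoc, ← mul_assoc, ey]; simp [mul_assoc]
        _ = D * (p * E) * (y * D) := by rw [(c E).eq]; simp [mul_assoc]
        _ = D * E * (p * D) * y := by rw [hpE.eq, (c D).eq]; simp [mul_assoc]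
        _ = D * E * D * p * y * y := by rw [ey]; simp [mul_assoc]
    rw [ede] at l
    have : y = 1 := hx.cancel _ _ (l.symm.trans rr)
    rw [this, mul_one] at ey
    exact ey
  -- T commutes with everything from the first group
  have withT : ∀ p : Γ, σ p * σ p = 1 → thX .t * σ p = σ p * thX .t → Commute T p := by
    intro p hp htp
    refine hx.commute_of_coprime (n := 3) (m := 2) (by norm_num) (by rw [hT, htp]) ?_ (p2 hp)
    rw [hT, r.t3]
  have withS : ∀ p : Γ, σ p * σ p = 1 → thX .s * σ p = σ p * thX .s → Commute S p := by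
    intro p hp htp
    refine hx.commute_of_coprime (n := 7) (m := 2) (by norm_num) (by rw [hS, htp]) ?_ (p2 hp)
    rw [hS, r.s7]
  have TD : Commute T D := withT D (by rw [hD, r.dd]) (by rw [hD, r.td])
  have sd : (S * D) ^ 2 = 1 := by
    obtain ⟨y, hy, ey⟩ := hx.split (p := D * S * D) (q := S⁻¹) (by
      rw [map_mul, map_mul, map_inv, hD, hS]
      have h := r.sd
      rw [pow_two] at h
      refine eq_inv_of_mul_eq_one_left ?_
      calc thX .d * thX .s * thX .d * thX .s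
          = (thX .s)⁻¹ * (thX .s * thX .d * (thX .s * thX .d)) * thX .s := by group
        _ = 1 := by rw [h, mul_one, inv_mul_cancel])
    have c := hx.cent y hy
    have h1 : D * S ^ 2 * D = (S ^ 2)⁻¹ * y ^ 2 := by
      calc D * S ^ 2 * D = (D * S * D) ^ 2 := by
            simp [pow_succ, mul_assoc, ← mul_assoc D D, dd]
        _ = (S ^ 2)⁻¹ * y ^ 2 := by rw [ey, hx.mul_pow hy, inv_pow]
    have h2 : D * S ^ 2 * D = (S ^ 2)⁻¹ * y := by
      have e := congrArg (fun q => T⁻¹ * q * T) ey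
      replace e : T⁻¹ * (D * S * D) * T = T⁻¹ * (S⁻¹ * y) * T := e
      rw [show T⁻¹ * (D * S * D) * T = D * (T⁻¹ * S * T) * D by
            rw [show T⁻¹ * (D * S * D) * T = T⁻¹ * D * S * (D * T) by group, ← TD.eq,
              TD.inv_left.eq]
            group,
        show T⁻¹ * (S⁻¹ * y) * T = (T⁻¹ * S * T)⁻¹ * y by
            rw [show T⁻¹ * (S⁻¹ * y) * T = T⁻¹ * S⁻¹ * (y * T) by group, (c T).eq]
            group,
        TS] at e
      exact e
    have : y = 1 := by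
      have h := h1.symm.trans h2
      rw [pow_two y] at h
      exact mul_eq_left.mp (mul_left_cancel h)
    rw [this, mul_one] at ey
    rw [pow_two, show S * D * (S * D) = S * (D * S * D) by group, ey, mul_inv_cancel]
  -- c, a, b
  obtain ⟨C1, hC1, C1C1⟩ := sq r.cc
  obtain ⟨B1, hB1, B1B1⟩ := sq r.bb
  obtain ⟨A, A_def⟩ : ∃ y, y = (C1 * D) ^ 4 := ⟨_, rfl⟩
  have hA : σ A = thX .a := by simp [A_def, hC1, hD, ← r.acd]
  have invC1 : C1⁻¹ = C1 := inv_eq_of_mul_eq_one_left C1C1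
  have invB1 : B1⁻¹ = B1 := inv_eq_of_mul_eq_one_left B1B1
  have comm_of : ∀ {p q : Gth}, p * p = 1 → q * q = 1 → (p * q) ^ 2 = 1 → p * q = q * p := by
    intro p q hp hq h
    rw [pow_two] at h
    rw [eq_inv_of_mul_eq_one_left h, mul_inv_rev, inv_eq_of_mul_eq_one_left hp,
      inv_eq_of_mul_eq_one_left hq]
  have AS : Commute S A := withS A (by rw [hA, r.aa]) (by rw [hA, r.sa])
  have AE : Commute A E := withE A AS.symm (by rw [hA, comm_of r.aa r.ee r.ae])
  have ad : thX .a * thX .d = thX .d * thX .a := by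
    have e1 : thX .d * thX .a * thX .d = (thX .a)⁻¹ := by
      rw [r.acd, ← inv_pow, mul_inv_rev, inv_eq_of_mul_eq_one_left r.dd,
        inv_eq_of_mul_eq_one_left r.cc]
      simp [pow_succ, mul_assoc, r.dd]
    rw [inv_eq_of_mul_eq_one_left r.aa] at e1
    calc thX .a * thX .d = thX .d * thX .a * thX .d * thX .d := by rw [e1]
      _ = thX .d * thX .a := by rw [mul_assoc _ (thX .d) (thX .d), r.dd, mul_one]
  have AD : Commute A D := withD A AE (by rw [hA, ad])
  have aa : A * A = 1 := by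
    have e1 : D * A * D = A⁻¹ := by
      simp only [A_def]
      rw [← inv_pow, mul_inv_rev, invD, invC1]
      simp [pow_succ, mul_assoc, dd]
    rw [← AD.eq, mul_assoc, dd, mul_one] at e1
    exact eq_inv_iff_mul_eq_one.mp e1
  have invA : A⁻¹ = A := inv_eq_of_mul_eq_one_left aa
  obtain ⟨y1, hy1, ey1⟩ : ∃ y, σ y = 1 ∧ (B1 * C1) ^ 3 = y :=
    ⟨_, by rw [map_pow, map_mul, hB1, hC1, r.bc], rfl⟩
  have y12 : y1 * y1 = 1 := by
    have h : C1 * (B1 * C1) ^ 3 * C1 = ((B1 * C1) ^ 3)⁻¹ := by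
      rw [← inv_pow, mul_inv_rev, invC1, invB1]
      simp [pow_succ, mul_assoc, C1C1]
    rw [ey1, ← (hx.cent y1 hy1 C1).eq, mul_assoc, C1C1, mul_one] at h
    exact eq_inv_iff_mul_eq_one.mp h
  obtain ⟨B2, B2_def⟩ : ∃ y, y = B1 * y1 := ⟨_, rfl⟩
  have hB2 : σ B2 = thX .b := by simp [B2_def, hB1, hy1]
  have B2B2 : B2 * B2 = 1 := by
    simp only [B2_def]; rw [← pow_two, hx.mul_pow hy1, pow_two, pow_two, B1B1, y12, one_mul]
  have b2c : (B2 * C1) ^ 3 = 1 := by
    have h : B2 * C1 = B1 * C1 * y1 := by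
      simp only [B2_def]; rw [mul_assoc, (hx.cent y1 hy1 C1).eq, ← mul_assoc]
    rw [h, hx.mul_pow hy1, ey1, ← pow_succ', show 3 + 1 = 2 * 2 from rfl, pow_mul, pow_two y1, y12,
      one_pow]
  have invB2 : B2⁻¹ = B2 := inv_eq_of_mul_eq_one_left B2B2
  obtain ⟨y2, hy2, ey2⟩ : ∃ y, σ y = 1 ∧ (A * B2) ^ 3 = y :=
    ⟨_, by rw [map_pow, map_mul, hA, hB2, r.ab], rfl⟩
  have y22 : y2 * y2 = 1 := by
    have h : B2 * (A * B2) ^ 3 * B2 = ((A * B2) ^ 3)⁻¹ := by
      rw [← inv_pow, mul_inv_rev, invA, invB2]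
      simp [pow_succ, mul_assoc, B2B2]
    rw [ey2, ← (hx.cent y2 hy2 B2).eq, mul_assoc, B2B2, mul_one] at h
    exact eq_inv_iff_mul_eq_one.mp h
  obtain ⟨C, C_def⟩ : ∃ y, y = C1 * y2 := ⟨_, rfl⟩
  obtain ⟨B, B_def⟩ : ∃ y, y = B2 * y2 := ⟨_, rfl⟩
  have hC : σ C = thX .c := by simp [C_def, hC1, hy2]
  have hB : σ B = thX .b := by simp [B_def, hB2, hy2]
  have cc : C * C = 1 := by
    simp only [C_def]; rw [← pow_two, hx.mul_pow hy2, pow_two, pow_two, C1C1, y22, one_mul]
  have bb : B * B = 1 := by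
    simp only [B_def]; rw [← pow_two, hx.mul_pow hy2, pow_two, pow_two, B2B2, y22, one_mul]
  have cy := hx.cent y2 hy2
  have ab : (A * B) ^ 3 = 1 := by
    have h : A * B = A * B2 * y2 := by simp [B_def, mul_assoc]
    rw [h, hx.mul_pow hy2, ey2, ← pow_succ', show 3 + 1 = 2 * 2 from rfl, pow_mul, pow_two y2, y22,
      one_pow]
  have bc : (B * C) ^ 3 = 1 := by
    have h : B * C = B2 * C1 * (y2 * y2) := by
      simp only [B_def, C_def]
      rw [mul_assoc B2 y2, ← mul_assoc y2 C1, (cy C1).eq]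
      simp [mul_assoc]
    rw [h, y22, mul_one, b2c]
  have acd : A = (C * D) ^ 4 := by
    have h : C * D = C1 * D * y2 := by
      simp only [C_def]; rw [mul_assoc, (cy D).eq, ← mul_assoc]
    rw [h, hx.mul_pow hy2, show 4 = 2 * 2 from rfl, pow_mul y2, pow_two y2, y22, one_pow, mul_one]
    exact A_def
  have invB : B⁻¹ = B := inv_eq_of_mul_eq_one_left bb
  have invC : C⁻¹ = C := inv_eq_of_mul_eq_one_left cc
  have CS : Commute S C := withS C (by rw [hC, r.cc]) (by rw [hC, r.sc])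
  have BS : Commute S B := withS B (by rw [hB, r.bb]) (by rw [hB, r.sb])
  have CE : Commute C E := withE C CS.symm (by rw [hC, comm_of r.cc r.ee r.ce])
  have BE : Commute B E := withE B BS.symm (by rw [hB, comm_of r.bb r.ee r.be])
  have BD : Commute B D := withD B BE (by rw [hB, comm_of r.bb r.dd r.bd])
  have sq2 : ∀ {p q : Γ}, Commute p q → p * p = 1 → q * q = 1 → (p * q) ^ 2 = 1 := by
    intro p q h hp hq
    rw [h.mul_pow, pow_two, pow_two, hp, hq, one_mul]
  have bcde : (B * C * D * E) ^ 8 = 1 := by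
    have inv4 : (B * C * D * E)⁻¹ = E * D * C * B := by
      simp [invB, invC, invD, invE, mul_assoc]
    obtain ⟨K, K_def⟩ : ∃ y, y = B * C * B * E := ⟨_, rfl⟩
    have hK : K * (B * C * D * E) * K⁻¹ = (B * C * D * E)⁻¹ := by
      rw [inv4]
      calc K * (B * C * D * E) * K⁻¹
          = B * C * B * (E * (B * C)) * D * (E * E) * B * C * B := by
            simp [K_def, invB, invC, invE, mul_assoc]
        _ = B * C * B * (B * C * E) * D * B * C * B := by
            rw [ee, mul_one, (BE.mul_left CE).eq]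
        _ = B * (C * C) * (E * D) * B * C * B := by
            simp [mul_assoc, ← mul_assoc B B, bb]
        _ = E * (B * D) * B * C * B := by
            rw [cc, mul_one, ← mul_assoc B E D, BE.eq, mul_assoc E B D]
        _ = E * D * C * B := by
            rw [BD.eq]; simp [mul_assoc, ← mul_assoc B B, bb]
    obtain ⟨G, G_def⟩ : ∃ y, y = wg A B C D E := ⟨_, rfl⟩
    have hG : σ G = wg (thX .a) (thX .b) (thX .c) (thX .d) (thX .e) := by
      simp [G_def, wg, hA, hB, hC, hD, hE]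
    obtain ⟨q, hq, eq'⟩ := hx.split (p := (B * C * D * E) ^ 4) (q := G * A * G⁻¹) (by
      rw [map_mul, map_mul, map_inv, hG, hA, conj_four, mul_inv_cancel_right]
      simp [hB, hC, hD, hE])
    obtain ⟨κ, hκ, eκ⟩ := hx.split (p := G⁻¹ * K * G) (q := D) (by
      rw [map_mul, map_mul, map_inv, hG, hD]
      have : σ K = thX .b * thX .c * thX .b * thX .e := by simp [K_def, hB, hC, hE]
      rw [this, mul_assoc, conj_kick, inv_mul_cancel_left])
    have hKA : Commute (G⁻¹ * K * G) A := by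
      rw [eκ]; exact AD.symm.mul_left (hx.cent κ hκ A)
    have h4 : K * (B * C * D * E) ^ 4 * K⁻¹ = ((B * C * D * E) ^ 4)⁻¹ := by
      rw [← inv_pow, ← hK, conj_pow]
    rw [eq'] at h4
    have l : K * (G * A * G⁻¹ * q) * K⁻¹ = G * A * G⁻¹ * q := by
      calc K * (G * A * G⁻¹ * q) * K⁻¹ = K * (G * A * G⁻¹) * (q * K⁻¹) := by group
        _ = G * ((G⁻¹ * K * G) * A * (G⁻¹ * K * G)⁻¹) * G⁻¹ * q := by
          rw [(hx.cent q hq K⁻¹).eq]; group
        _ = G * A * G⁻¹ * q := by rw [hKA.eq]; group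
    rw [l] at h4
    calc (B * C * D * E) ^ 8 = (G * A * G⁻¹ * q) * (G * A * G⁻¹ * q) := by
          rw [← pow_two, ← eq', ← pow_mul]
      _ = 1 := by nth_rw 2 [h4]; rw [mul_inv_cancel]
  have R : Rels A B C D E S T :=
    { aa, bb, cc, dd, ee, ab, ae := sq2 AE aa ee, bc, bd := sq2 BD bb dd, be := sq2 BE bb ee,
      acd, ce := sq2 CE cc ee, de, bcde, s7 := S7, sa := AS.eq, sb := BS.eq, sc := CS.eq, sd,
      es, t3 := T3, ta := withT A (by rw [hA, r.aa]) (by rw [hA, r.ta]),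
      tb := withT B (by rw [hB, r.bb]) (by rw [hB, r.tb]),
      tc := withT C (by rw [hC, r.cc]) (by rw [hC, r.tc]), td := TD.eq,
      te := withT E (by rw [hE, r.ee]) (by rw [hE, r.te]), ts := TS }
  let img : Fin 7 → Γ := ![A, B, C, D, E, S, T]
  have hr : ∀ w ∈ relSet, FreeGroup.lift img w = 1 := by
    intro w hw
    refine R.relsOf_eq (FreeGroup.lift img w) ?_
    have e := map_relsOf (FreeGroup.lift img) (fg 0) (fg 1) (fg 2) (fg 3) (fg 4) (fg 5) (fg 6)
    simp only [FreeGroup.lift_apply_of] at e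
    have hm := List.mem_map_of_mem (f := FreeGroup.lift img) hw
    rw [e] at hm
    exact hm
  refine ⟨PresentedGroup.toGroup hr, ?_, u, hu, ?_⟩
  · intro p
    have : σ.comp (PresentedGroup.toGroup hr) = iota := by
      apply PresentedGroup.ext
      intro i
      show σ (PresentedGroup.toGroup hr (PresentedGroup.of i)) = iota (x i)
      rw [PresentedGroup.toGroup.of, iota_x]
      fin_cases i <;> simp [img, thImg, hA, hB, hC, hD, hE, hS, hT]
    exact DFunLike.congr_fun this p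
  · have : PresentedGroup.toGroup hr (x 6) = T := by
      show PresentedGroup.toGroup hr (PresentedGroup.of 6) = T
      rw [PresentedGroup.toGroup.of]; rfl
    rw [this]; exact uT

end H67.ThSchur
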