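import Cfsg.Agent.H67.ThSchur.Apply
import Cfsg.Prelude.Def_KGroupFacts

/-!
Every finite stem extension of the presented Thompson group is trivial, once that group is finite
and contains the group of the relations (1), (2), (3).
-/

set_option autoImplicit false
set_option linter.unusedSectionVars false
set_option maxRecDepth 20000

namespace H67.ThSchur

open Cfsg H22Th
open scoped commutatorElement

variable {Γ : Type*} [Group Γ] {σ : Γ →* Gth}

/-- images of the eight generators -/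
def genImg (ψ : P →* Γ) (U : Γ) : Cfsg.Spor.Th.Gen → Γ
  | .a => ψ (x 0)
  | .b => ψ (x 1)
  | .c => ψ (x 2)
  | .d => ψ (x 3)
  | .e => ψ (x 4)
  | .s => ψ (x 5)
  | .t => ψ (x 6)
  | .u => U

theorem exists_section (hx : Ext σ) (hinj : Function.Injective iota) :
    ∃ f : Gth →* Γ, σ.comp f = MonoidHom.id Gth := by
  obtain ⟨ψ, U, G⟩ := exists_good hx hinj
  obtain ⟨hz2, hW, hz3, huu, huq⟩ := exact_C hx hinj G
  have hy := exact_G hx hinj G
  have R := rels_x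
  have pm : ∀ p q : P, p = q → ψ p = ψ q := fun p q h => congrArg ψ h
  have sqA : ψ (x 0) * ψ (x 0) = 1 := by rw [← map_mul, R.aa, map_one]
  have sqC : ψ (x 2) * ψ (x 2) = 1 := by rw [← map_mul, R.cc, map_one]
  have sqE : ψ (x 4) * ψ (x 4) = 1 := by rw [← map_mul, R.ee, map_one]
  have iA : (ψ (x 0))⁻¹ = ψ (x 0) := inv_eq_of_mul_eq_one_left sqA
  have iB : (ψ (x 1))⁻¹ = ψ (x 1) :=
    inv_eq_of_mul_eq_one_left (by rw [← map_mul, R.bb, map_one])
  have iC : (ψ (x 2))⁻¹ = ψ (x 2) := inv_eq_of_mul_eq_one_left sqC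
  have iD : (ψ (x 3))⁻¹ = ψ (x 3) :=
    inv_eq_of_mul_eq_one_left (by rw [← map_mul, R.dd, map_one])
  have iE : (ψ (x 4))⁻¹ = ψ (x 4) := inv_eq_of_mul_eq_one_left sqE
  have rp : ∀ r ∈ relsOf (ψ (x 0)) (ψ (x 1)) (ψ (x 2)) (ψ (x 3)) (ψ (x 4)) (ψ (x 5)) (ψ (x 6)),
      r = 1 := by
    intro r hr
    rw [← map_relsOf] at hr
    obtain ⟨w, hw, rfl⟩ := List.mem_map.mp hr
    rw [R.relsOf_eq w hw, map_one]
  have R' := rels_of_relsOf rp
  have cm : ∀ {p q : Γ}, p * q = q * p → p⁻¹ * q⁻¹ * p * q = 1 := fun {p q} h => by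
    rw [mul_assoc, h]; group
  have hrel : ∀ r ∈ Cfsg.Spor.Th.extra, FreeGroup.lift (genImg ψ U) r = 1 := by
    have conjU : ∀ p : Γ, U⁻¹ * p * U = p → p * p = 1 → U⁻¹ * p⁻¹ * U * p = 1 := fun p h h2 => by
      rw [inv_eq_of_mul_eq_one_left h2, h, h2]
    simp only [Cfsg.Spor.Th.extra, List.forall_mem_cons, map_mul, map_inv, map_pow,
      FreeGroup.lift_apply_of, genImg, List.not_mem_nil, IsEmpty.forall_iff, implies_true, and_true]
    refine ⟨by rw [pow_two]; exact R'.aa, by rw [pow_two]; exact R'.bb,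
      by rw [pow_two]; exact R'.cc, by rw [pow_two]; exact R'.dd, by rw [pow_two]; exact R'.ee,
      R'.ab, R'.ae, R'.bc, R'.bd, R'.be, mul_inv_eq_one.mpr R'.acd, R'.ce, R'.de, R'.bcde, R'.s7,
      cm R'.sa, cm R'.sb, cm R'.sc, R'.sd, mul_inv_eq_one.mpr R'.es, R'.t3, cm R'.ta, cm R'.tb,
      cm R'.tc, cm R'.td, cm R'.te, mul_inv_eq_one.mpr R'.ts, ?_, conjU _ G.ua sqA, conjU _ G.uc sqC,
      conjU _ G.ue sqE, ?_, ?_, ?_, ?_, ?_, ?_, ?_, ?_⟩
    · rw [pow_two, huu, mul_inv_cancel]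
    · simpa [wd, wW, cod, pow_succ, mul_assoc] using hW
    · have hqi : (ψ qEl)⁻¹ = ψ qEl := by rw [← map_inv, inv_eq_of_mul_eq_one_left qq]
      have h : U⁻¹ * (ψ qEl)⁻¹ * U * (ψ qEl * (ψ (x 4))⁻¹) = 1 := by
        rw [hqi, huq, iE, ← map_mul, ← map_mul,
          show qEl * x 4 * (qEl * x 4) = qEl * (x 4 * qEl) * x 4 by group, eq_qe, ← mul_assoc, qq,
          one_mul, R.ee, map_one]
      simpa [qEl, mul_assoc, iA, iB, iC, iE] using h
    · simpa [wd, wY, cod, mul_inv_rev, inv_inv, iA, iB, iC, iD, iE, mul_assoc] using hy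
    · rw [inv_inv]
      show U⁻¹ * ψ (x 6) * U * ψ (x 6) = 1
      rw [G.ut, inv_mul_cancel]
    · have h := wd_uf G _ rfl
      simpa [pow_succ, mul_inv_rev, inv_inv, iA, iB, iC, iD, iE, mul_assoc] using h
    · rw [← G.ratio, huu, mul_inv_cancel]
    · simpa [wd, wZ2, cod, pow_succ, mul_inv_rev, inv_inv, iA, iB, iC, iD, iE, mul_assoc] using hz2
    · simpa [wd, wZ3, cod, pow_succ, mul_inv_rev, inv_inv, iA, iB, iC, iD, iE, mul_assoc] using hz3
  have hrel' : ∀ r ∈ Cfsg.Spor.coxRelators Cfsg.Spor.Th.edges ∪ {r | r ∈ Cfsg.Spor.Th.extra},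
      FreeGroup.lift (genImg ψ U) r = 1 := by
    rintro r (⟨p, hp, -⟩ | hr)
    · simp [Cfsg.Spor.coxNodes, Cfsg.Spor.Th.edges] at hp
    · exact hrel r hr
  refine ⟨PresentedGroup.toGroup hrel', PresentedGroup.ext fun g => ?_⟩
  show σ (PresentedGroup.toGroup hrel' (PresentedGroup.of g)) = thX g
  rw [PresentedGroup.toGroup.of]
  cases g <;> simp [genImg, G.lifts, G.hU, iota_x, thImg]

section Stem

variable {Δ : Type} [Group Δ] (τ : Δ →* Gth) (χ : τ.ker →* ℂˣ)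

/-- the subgroup glueing the kernel to its character -/
def glue (hc : τ.ker ≤ Subgroup.center Δ) : Subgroup (Δ × ℂˣ) where
  carrier := {p | ∃ k : τ.ker, p = ((k : Δ), (χ k)⁻¹)}
  one_mem' := ⟨1, Prod.ext (by simp) (by simp)⟩
  mul_mem' := by
    rintro _ _ ⟨k, rfl⟩ ⟨l, rfl⟩
    exact ⟨k * l, by simp [mul_comm]⟩
  inv_mem' := by
    rintro _ ⟨k, rfl⟩
    exact ⟨k⁻¹, by simp⟩

theorem glue_normal (hc : τ.ker ≤ Subgroup.center Δ) : (glue τ χ hc).Normal := by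
  refine ⟨fun p hp g => ?_⟩
  obtain ⟨k, rfl⟩ := hp
  refine ⟨k, Prod.ext ?_ ?_⟩
  · show g.1 * (k : Δ) * g.1⁻¹ = k
    rw [Subgroup.mem_center_iff.mp (hc k.2) g.1, mul_inv_cancel_right]
  · show g.2 * (χ k)⁻¹ * g.2⁻¹ = (χ k)⁻¹
    rw [mul_comm g.2, mul_inv_cancel_right]

theorem char_trivial (hτ : IsStemExtension τ) (hinj : Function.Injective iota) : χ = 1 := by
  obtain ⟨hs, hc, hd⟩ := hτ
  haveI := glue_normal τ χ hc
  let N := glue τ χ hc
  let σ' : (Δ × ℂˣ) ⧸ N →* Gth :=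
    QuotientGroup.lift N (τ.comp (MonoidHom.fst Δ ℂˣ)) (by
      rintro _ ⟨k, rfl⟩
      exact k.2)
  have hmk : ∀ p : Δ × ℂˣ, σ' (QuotientGroup.mk' N p) = τ p.1 := fun p => rfl
  have kerform : ∀ z, σ' z = 1 → ∃ d : ℂˣ, z = QuotientGroup.mk' N ((1 : Δ), d) := by
    intro z hz
    obtain ⟨⟨g, d⟩, rfl⟩ := QuotientGroup.mk'_surjective N z
    rw [hmk] at hz
    refine ⟨d * χ ⟨g, hz⟩, (QuotientGroup.eq.mpr ?_)⟩
    refine ⟨⟨g, hz⟩⁻¹, Prod.ext ?_ ?_⟩
    · simp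
    · simp [mul_comm, mul_assoc]
  have hx : Ext σ' := by
    refine ⟨fun y => ?_, fun z hz q => ?_, fun z hz n hn => ?_⟩
    · obtain ⟨g, hg⟩ := hs y
      exact ⟨QuotientGroup.mk' N (g, 1), hg⟩
    · obtain ⟨d, rfl⟩ := kerform z hz
      obtain ⟨⟨g, e⟩, rfl⟩ := QuotientGroup.mk'_surjective N q
      show _ = _
      rw [← map_mul, ← map_mul]
      congr 1
      exact Prod.ext (by simp) (mul_comm _ _)
    · obtain ⟨d, rfl⟩ := kerform z hz
      obtain ⟨w, hw⟩ := IsAlgClosed.exists_pow_nat_eq (d : ℂ) hn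
      have hw0 : w ≠ 0 := by
        intro h
        rw [h, zero_pow hn.ne'] at hw
        exact d.ne_zero hw.symm
      refine ⟨QuotientGroup.mk' N ((1 : Δ), Units.mk0 w hw0), by rw [hmk]; simp, ?_⟩
      rw [← map_pow]
      congr 1
      exact Prod.ext (one_pow n) (Units.ext (by simp [hw]))
  obtain ⟨f, hf⟩ := exists_section hx hinj
  have hf' : ∀ g, σ' (f g) = g := fun g => DFunLike.congr_fun hf g
  have hcomm : commutator ((Δ × ℂˣ) ⧸ N) ≤ f.range := by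
    rw [commutator_def, Subgroup.commutator_le]
    intro p _ q _
    have dec : ∀ p, ∃ z, σ' z = 1 ∧ p = f (σ' p) * z := fun p =>
      ⟨(f (σ' p))⁻¹ * p, by rw [map_mul, map_inv, hf', inv_mul_cancel], by group⟩
    obtain ⟨z, hz, ep⟩ := dec p
    obtain ⟨w, hw, eq'⟩ := dec q
    have cz : z ∈ Subgroup.center _ := Subgroup.mem_center_iff.mpr fun g => (hx.cent z hz g).eq.symm
    have cw : w ∈ Subgroup.center _ := Subgroup.mem_center_iff.mpr fun g => (hx.cent w hw g).eq.symm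
    refine ⟨⁅σ' p, σ' q⁆, ?_⟩
    rw [map_commutatorElement]
    conv_rhs => rw [ep, eq']
    generalize f (σ' p) = P'
    generalize f (σ' q) = Q'
    rw [commutatorElement_def, commutatorElement_def, mul_inv_rev, mul_inv_rev]
    have c1 := Subgroup.mem_center_iff.mp cz
    have c2 := Subgroup.mem_center_iff.mp cw
    calc P' * Q' * P'⁻¹ * Q'⁻¹ = P' * (z * z⁻¹) * Q' * (w * w⁻¹) * P'⁻¹ * Q'⁻¹ := by group
      _ = P' * z * (Q' * w) * (z⁻¹ * P'⁻¹) * (w⁻¹ * Q'⁻¹) := by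
        rw [show P' * (z * z⁻¹) * Q' * (w * w⁻¹) * P'⁻¹ * Q'⁻¹ =
            P' * z * (z⁻¹ * (Q' * w)) * (w⁻¹ * P'⁻¹) * Q'⁻¹ by group,
          ← Subgroup.mem_center_iff.mp (inv_mem cz) (Q' * w),
          ← Subgroup.mem_center_iff.mp (inv_mem cw) P'⁻¹]
        group
  refine MonoidHom.ext fun k => ?_
  have h1 : QuotientGroup.mk' N ((k : Δ), (1 : ℂˣ)) ∈ commutator ((Δ × ℂˣ) ⧸ N) := by
    let j : Δ →* (Δ × ℂˣ) ⧸ N := (QuotientGroup.mk' N).comp (MonoidHom.inl Δ ℂˣ)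
    have : (commutator Δ).map j ≤ commutator ((Δ × ℂˣ) ⧸ N) := by
      rw [commutator_def, commutator_def, Subgroup.map_commutator]
      exact Subgroup.commutator_mono le_top le_top
    exact this ⟨k, hd k.2, rfl⟩
  obtain ⟨g, hg⟩ := hcomm h1
  have hg1 : g = 1 := by
    have := congrArg σ' hg
    rw [hf', hmk] at this
    rw [this]; exact k.2
  rw [hg1, map_one] at hg
  obtain ⟨l, hl⟩ := (QuotientGroup.eq_one_iff _).mp hg.symm
  have e1 : (k : Δ) = l := congrArg Prod.fst hl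
  have e2 : (1 : ℂˣ) = (χ l)⁻¹ := congrArg Prod.snd hl
  rw [Subtype.ext e1]
  exact inv_eq_one.mp e2.symm

end Stem

theorem hasCyclicSchurMultiplier_Th [Finite Gth] (hinj : Function.Injective iota) :
    Cfsg.HasCyclicSchurMultiplier Gth 1 := by
  refine ⟨⟨Gth, inferInstance, inferInstance, MonoidHom.id Gth,
    ⟨Function.surjective_id, by simp, by simp⟩, ?_⟩, fun Δ _ _ τ hτ => ⟨1, fun k => ⟨1, ?_⟩⟩⟩
  · haveI : Subsingleton (MonoidHom.id Gth).ker := ⟨fun p q => Subtype.ext (p.2.trans q.2.symm)⟩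
    haveI : Subsingleton (Multiplicative (ZMod 1)) := inferInstance
    exact ⟨{ toFun := fun _ => 1, invFun := fun _ => 1, left_inv := fun _ => Subsingleton.elim _ _,
             right_inv := fun _ => Subsingleton.elim _ _, map_mul' := fun _ _ => Subsingleton.elim _ _ }⟩
  · rw [map_one]
    by_contra hk
    letI : CommGroup τ.ker :=
      { (inferInstance : Group τ.ker) with
        mul_comm := fun p q => Subtype.ext (Subgroup.mem_center_iff.mp (hτ.2.1 q.2) p) }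
    obtain ⟨χ, hχ⟩ := CommGroup.exists_apply_ne_one_of_hasEnoughRootsOfUnity τ.ker ℂ (Ne.symm hk)
    exact hχ (by rw [char_trivial τ χ hτ hinj]; rfl)

end H67.ThSchur
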