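import Cfsg.Agent.H67.ThSchur.Lift

/-!
The element over `u` in a divisible central extension: normalisation and its action on `P ∩ P^u`.
-/

set_option autoImplicit false
set_option linter.unusedSectionVars false

namespace H67.ThSchur

open Cfsg H22Th
open H77.HN (evw)

/-- the element `bacb` -/
def qEl : P := x 1 * x 0 * x 2 * x 1
/-- the element `sseSS` -/
def fEl : P := x 5 * x 5 * x 4 * (x 5)⁻¹ * (x 5)⁻¹
/-- the element `dcd` -/
def mEl : P := x 3 * x 2 * x 3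

theorem qq : qEl * qEl = 1 := by
  have h := pEq [1, 2, 0, 1, 1, 2, 0, 1] [] (by decide +kernel)
  simp only [H77.HN.evw_cons, H77.HN.evw_nil, gen0, gen1, gen2, one_mul] at h
  simpa [qEl, mul_assoc] using h

theorem eq_qe : x 4 * qEl = qEl * x 4 := by
  have h := pEq [1, 2, 0, 1, 4] [4, 1, 2, 0, 1] (by decide +kernel)
  simp only [H77.HN.evw_cons, H77.HN.evw_nil, gen0, gen1, gen2, gen4, one_mul] at h
  simpa [qEl, mul_assoc] using h

theorem ac_q : x 0 * x 2 * qEl = qEl * (x 0 * x 2) := by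
  have h := pEq [1, 2, 0, 1, 2, 0] [2, 0, 1, 2, 0, 1] (by decide +kernel)
  simp only [H77.HN.evw_cons, H77.HN.evw_nil, gen0, gen1, gen2, one_mul] at h
  simpa [qEl, mul_assoc] using h

theorem ac_ca : x 0 * x 2 = x 2 * x 0 := by
  have h := pEq [2, 0] [0, 2] (by decide +kernel)
  simpa [gen0, gen2] using h

theorem ff : fEl * fEl = 1 := by
  have h := pEq [5, 5, 4, 6, 6, 5, 5, 4, 6, 6] [] (by decide +kernel)
  simp only [H77.HN.evw_cons, H77.HN.evw_nil, gen4, gen5, gen6, one_mul] at h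
  simpa [fEl, mul_assoc] using h

theorem mm : mEl * mEl = 1 := by
  have h := pEq [3, 2, 3, 3, 2, 3] [] (by decide +kernel)
  simp only [H77.HN.evw_cons, H77.HN.evw_nil, gen2, gen3, one_mul] at h
  simpa [mEl, mul_assoc] using h

/-- a relation in `P ∩ P^u` with an odd number of factors `sseSS` -/
theorem rel_f : x 4 * x 6 * fEl * (x 6 * fEl) * (x 6 * fEl) = 1 := by
  have h := pEq [5, 5, 4, 6, 6, 8, 5, 5, 4, 6, 6, 8, 5, 5, 4, 6, 6, 8, 4] [] (by decide +kernel)
  simp only [H77.HN.evw_cons, H77.HN.evw_nil, gen4, gen5, gen6, gen8, one_mul] at h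
  simpa [fEl, mul_assoc] using h

/-- a relation in `P ∩ P^u` with odd numbers of factors `dcd` and `bacb` -/
theorem rel_mq : (mEl * qEl) ^ 3 = 1 := by
  have h := pEq [1, 2, 0, 1, 3, 2, 3, 1, 2, 0, 1, 3, 2, 3, 1, 2, 0, 1, 3, 2, 3] [] (by decide +kernel)
  simp only [H77.HN.evw_cons, H77.HN.evw_nil, gen0, gen1, gen2, gen3, one_mul] at h
  simpa [mEl, qEl, pow_succ, mul_assoc] using h

open H93.Th in
theorem th_uu : thX .u * thX .u = thX .a * thX .c := by
  have h := urel0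
  simp only [List.map_cons, List.map_nil, List.prod_cons, List.prod_nil, mul_one, code] at h
  rw [← mul_assoc] at h
  rw [thX_eq, thX_eq, thX_eq, eq_inv_of_mul_eq_one_left h, mul_inv_rev, inv_a, inv_c]

open H93.Th in
theorem th_us : (thX .u * thX .s) ^ 3 = thX .a * thX .c := by
  have h := urel9
  simp only [List.map_cons, List.map_nil, List.prod_cons, List.prod_nil, mul_one, code] at h
  rw [← mul_assoc] at h
  have e := eq_inv_of_mul_eq_one_left h
  simp only [mul_inv_rev, inv_inv] at e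
  simpa [thX_eq, pow_succ, mul_assoc] using e.symm

open H93.Th in
theorem th_ua : (thX .u)⁻¹ * thX .a * thX .u = thX .a := twist_a

open H93.Th in
theorem th_uc : (thX .u)⁻¹ * thX .c * thX .u = thX .c := twist_c

open H93.Th in
theorem th_ue : (thX .u)⁻¹ * thX .e * thX .u = thX .e := twist_e

open H93.Th in
theorem th_uq : (thX .u)⁻¹ * iota qEl * thX .u = iota (qEl * x 4) := by
  simpa [qEl, iota_x, thImg, thX_eq] using twist_bacb

open H93.Th in
theorem th_uf : (thX .u)⁻¹ * iota fEl * thX .u = iota fEl := by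
  simpa [fEl, iota_x, thImg, thX_eq] using twist_sseSS

open H93.Th in
theorem th_um : ∃ y : P, iota y = (thX .u)⁻¹ * iota mEl * thX .u := by
  obtain ⟨y, hy⟩ := mem_dcd
  exact ⟨y, by rw [hy]; simp [mEl, iota_x, thImg, thX_eq]⟩

variable {Γ : Type*} [Group Γ] {σ : Γ →* Gth}

/-- the data of a normalised pair: the copy of `P` and the element over `u` -/
structure Good (σ : Γ →* Gth) (ψ : P →* Γ) (U : Γ) : Prop where
  lifts : ∀ p, σ (ψ p) = iota p
  hU : σ U = thX .u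
  ut : U⁻¹ * ψ (x 6) * U = (ψ (x 6))⁻¹
  ua : U⁻¹ * ψ (x 0) * U = ψ (x 0)
  uc : U⁻¹ * ψ (x 2) * U = ψ (x 2)
  ue : U⁻¹ * ψ (x 4) * U = ψ (x 4)
  uf : U⁻¹ * ψ fEl * U = ψ fEl
  ratio : U * U = (U * ψ (x 5)) ^ 3
  sign : ∃ z m : Γ, σ z = 1 ∧ σ m = 1 ∧ U⁻¹ * ψ qEl * U = ψ (qEl * x 4) * z ∧ z * m = 1 ∧
    ∃ y : P, U⁻¹ * ψ mEl * U = ψ y * m

/-- conjugation by `U` of a product -/
theorem conj_mul_three (U p q : Γ) : U⁻¹ * (p * q) * U = U⁻¹ * p * U * (U⁻¹ * q * U) := by group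

theorem exists_good (hx : Ext σ) (hinj : Function.Injective iota) :
    ∃ ψ U, Good σ ψ U := by
  obtain ⟨ψ, hψ, u0, hu0, ut0⟩ := exists_lift hx
  obtain ⟨μ, hμ, eμ⟩ := hx.split (p := u0 * u0) (q := ψ (x 0) * ψ (x 2))
    (by simp [hψ, hu0, iota_x, thImg, th_uu])
  obtain ⟨ν, hν, eν⟩ := hx.split (p := (u0 * ψ (x 5)) ^ 3) (q := ψ (x 0) * ψ (x 2))
    (by simp [hψ, hu0, iota_x, thImg, th_us])
  have hε : σ (μ * ν⁻¹) = 1 := by simp [hμ, hν]
  have cε := hx.cent _ hε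
  obtain ⟨U, U_def⟩ : ∃ y, y = u0 * (μ * ν⁻¹) := ⟨_, rfl⟩
  have hU : σ U = thX .u := by rw [U_def, map_mul, hε, mul_one, hu0]
  have ut : U⁻¹ * ψ (x 6) * U = (ψ (x 6))⁻¹ := by
    calc U⁻¹ * ψ (x 6) * U = (μ * ν⁻¹)⁻¹ * (u0⁻¹ * ψ (x 6) * u0) * (μ * ν⁻¹) := by
          rw [U_def]; group
      _ = (ψ (x 6))⁻¹ := by
          rw [ut0, mul_assoc, ← (cε (ψ (x 6))⁻¹).eq, inv_mul_cancel_left]
  have ratio : U * U = (U * ψ (x 5)) ^ 3 := by
    have cμν : Commute μ ν⁻¹ := (hx.cent μ hμ ν).inv_right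
    have l : U * U = ψ (x 0) * ψ (x 2) * (μ * (μ * ν⁻¹) ^ 2) := by
      rw [← mul_assoc, ← eμ, U_def, ← pow_two, hx.mul_pow hε, pow_two u0]
    have r : (U * ψ (x 5)) ^ 3 = ψ (x 0) * ψ (x 2) * (ν * (μ * ν⁻¹) ^ 3) := by
      have e : U * ψ (x 5) = u0 * ψ (x 5) * (μ * ν⁻¹) := by
        rw [U_def, mul_assoc, (cε (ψ (x 5))).eq, ← mul_assoc]
      rw [e, hx.mul_pow hε, eν, mul_assoc]
    rw [l, r]
    congr 1
    have : ν * (μ * ν⁻¹) = μ := by rw [cμν.eq, mul_inv_cancel_left]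
    rw [show (3 : ℕ) = 1 + 2 from rfl, pow_add, pow_one, ← mul_assoc ν, this]
  have ac : σ (U * U) = σ (ψ (x 0) * ψ (x 2)) := by simp [hψ, hU, iota_x, thImg, th_uu]
  obtain ⟨κ, hκ, eκ⟩ := hx.split ac
  -- a and c
  have fix : ∀ p : P, p * p = 1 → Commute p (x 0 * x 2) → Commute p (x 5) →
      (thX .u)⁻¹ * iota p * thX .u = iota p → U⁻¹ * ψ p * U = ψ p := by
    intro p hp hac hs hu
    obtain ⟨f, hf, ef⟩ := hx.split (p := U⁻¹ * ψ p * U) (q := ψ p) (by simp [hψ, hU, hu])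
    have cf := hx.cent f hf
    have e1 : ψ p * U = U * ψ p * f := by
      rw [mul_assoc, ← ef]; group
    have cUU : Commute (ψ p) (U * U) := by
      rw [eκ, ← map_mul]
      exact (hac.map ψ).mul_right (hx.cent κ hκ (ψ p)).symm
    have e2 : f * f = 1 := by
      have h : ψ p * (U * U) = U * U * ψ p * (f * f) := by
        calc ψ p * (U * U) = ψ p * U * U := by rw [mul_assoc]
          _ = U * ψ p * (f * U) := by rw [e1, mul_assoc]
          _ = U * (ψ p * U) * f := by rw [(cf U).eq]; simp [mul_assoc]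
          _ = U * U * ψ p * (f * f) := by rw [e1]; simp [mul_assoc]
      exact hx.cancel _ _ (cUU.eq.symm.trans h)
    have step : ψ p * (U * ψ (x 5)) = U * ψ (x 5) * ψ p * f := by
      rw [← mul_assoc, e1, mul_assoc _ f, (cf _).eq, mul_assoc U, ← mul_assoc (ψ p),
        (hs.map ψ).eq]
      simp [mul_assoc]
    have e3 : f * f * f = 1 := by
      obtain ⟨W, W_def⟩ : ∃ y, y = U * ψ (x 5) := ⟨_, rfl⟩
      rw [← W_def] at step
      have h : ψ p * (W * W * W) = W * W * W * ψ p * (f * f * f) := by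
        have hW : ∀ X, ψ p * (W * X) = W * (ψ p * X) * f := fun X => by
          rw [← mul_assoc, step, mul_assoc _ f, (cf X).eq]
          simp [mul_assoc]
        rw [mul_assoc W W W, hW, hW, step]
        simp [mul_assoc]
      have cW : Commute (ψ p) (W * W * W) := by
        have : W * W * W = U * U := by rw [ratio, ← W_def]; simp [pow_succ]
        rw [this]; exact cUU
      exact hx.cancel _ _ (cW.eq.symm.trans h)
    rw [e2, one_mul] at e3
    rw [ef, e3, mul_one]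
  have cac : Commute (x 0 : P) (x 0 * x 2) := by
    show x 0 * (x 0 * x 2) = x 0 * x 2 * x 0
    rw [mul_assoc (x 0) (x 2), ← ac_ca]
  have cca : Commute (x 2 : P) (x 0 * x 2) := by
    show x 2 * (x 0 * x 2) = x 0 * x 2 * x 2
    rw [← mul_assoc, ← ac_ca]
  have ua : U⁻¹ * ψ (x 0) * U = ψ (x 0) :=
    fix _ rels_x.aa cac rels_x.sa.symm (by simp [iota_x, thImg, th_ua])
  have uc : U⁻¹ * ψ (x 2) * U = ψ (x 2) :=
    fix _ rels_x.cc cca rels_x.sc.symm (by simp [iota_x, thImg, th_uc])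
  -- e and q
  obtain ⟨z, hz, ez⟩ := hx.split (p := U⁻¹ * ψ qEl * U) (q := ψ (qEl * x 4))
    (by rw [map_mul, map_mul, map_inv, hψ, hψ, hU, th_uq])
  have sqz : ∀ (p p' : P) (k : Γ), σ k = 1 → p * p = 1 → p' * p' = 1 →
      U⁻¹ * ψ p * U = ψ p' * k → k * k = 1 := by
    intro p p' k hk hp hp' he
    have h : (U⁻¹ * ψ p * U) * (U⁻¹ * ψ p * U) = 1 := by
      rw [show U⁻¹ * ψ p * U * (U⁻¹ * ψ p * U) = U⁻¹ * (ψ p * ψ p) * U by group, ← map_mul, hp,
        map_one]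
      group
    rw [he, ← pow_two, hx.mul_pow hk, pow_two, ← map_mul, hp', map_one, one_mul, pow_two] at h
    exact h
  have qe2 : (qEl * x 4) * (qEl * x 4) = 1 := by
    calc qEl * x 4 * (qEl * x 4) = qEl * (x 4 * qEl) * x 4 := by group
      _ = 1 := by rw [eq_qe, ← mul_assoc, qq, one_mul, rels_x.ee]
  have z2 := sqz _ _ z hz qq qe2 ez
  have cU2 : ∀ p : P, Commute p (x 0 * x 2) → U⁻¹ * (U⁻¹ * ψ p * U) * U = ψ p := by
    intro p hp
    have c : Commute (ψ p) (U * U) := by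
      rw [eκ, ← map_mul]
      exact (hp.map ψ).mul_right (hx.cent κ hκ (ψ p)).symm
    rw [show U⁻¹ * (U⁻¹ * ψ p * U) * U = (U * U)⁻¹ * (ψ p * (U * U)) by group, c.eq,
      inv_mul_cancel_left]
  have ue : U⁻¹ * ψ (x 4) * U = ψ (x 4) := by
    obtain ⟨f, hf, ef⟩ := hx.split (p := U⁻¹ * ψ (x 4) * U) (q := ψ (x 4))
      (by simp [hψ, hU, iota_x, thImg, th_ue])
    have h := cU2 qEl ac_q.symm
    rw [ez, conj_mul_three U _ z, map_mul, conj_mul_three U (ψ qEl), ez, ef,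
      show U⁻¹ * z * U = z by rw [mul_assoc, (hx.cent z hz U).eq, inv_mul_cancel_left],
      map_mul] at h
    have e : ψ qEl * ψ (x 4) * z * (ψ (x 4) * f) * z = ψ qEl * f := by
      calc ψ qEl * ψ (x 4) * z * (ψ (x 4) * f) * z
          = ψ qEl * ψ (x 4) * ψ (x 4) * (z * f) * z := by
            rw [show ψ qEl * ψ (x 4) * z * (ψ (x 4) * f) * z =
              ψ qEl * ψ (x 4) * (z * ψ (x 4)) * f * z by group, (hx.cent z hz (ψ (x 4))).eq]
            group
        _ = ψ qEl * (f * z * z) := by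
            rw [mul_assoc (ψ qEl), ← map_mul, rels_x.ee, map_one, mul_one, (hx.cent z hz f).eq]
            group
        _ = ψ qEl * f := by rw [mul_assoc f, z2, mul_one]
    rw [e] at h
    rw [ef, mul_eq_left.mp h, mul_one]
  -- sseSS
  have uf : U⁻¹ * ψ fEl * U = ψ fEl := by
    obtain ⟨g, hg, eg⟩ := hx.split (p := U⁻¹ * ψ fEl * U) (q := ψ fEl) (by simp [hψ, hU, th_uf])
    have g2 := sqz _ _ g hg ff ff eg
    have y1 : x 4 * (x 6)⁻¹ * fEl * ((x 6)⁻¹ * fEl) * ((x 6)⁻¹ * fEl) = 1 := by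
      apply hinj
      have h := congrArg (fun p => (thX .u)⁻¹ * iota p * thX .u) rel_f
      simp only [map_one, mul_one, inv_mul_cancel] at h
      rw [map_one, ← h]
      have ht : (thX .u)⁻¹ * iota (x 6) * thX .u = (iota (x 6))⁻¹ := by simp [iota_x, thImg, u_t]
      have he : (thX .u)⁻¹ * iota (x 4) * thX .u = iota (x 4) := by simp [iota_x, thImg, th_ue]
      simp only [map_mul, map_inv]
      conv_lhs => rw [← he, ← ht, ← th_uf]
      group
    have h := congrArg (fun p => U⁻¹ * ψ p * U) rel_f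
    simp only [map_one, mul_one, inv_mul_cancel, map_mul, conj_mul_three, ut, ue, eg] at h
    have hy := congrArg ψ y1
    simp only [map_mul, map_inv, map_one] at hy
    have cg := hx.cent g hg
    have e : ψ (x 4) * (ψ (x 6))⁻¹ * (ψ fEl * g) * ((ψ (x 6))⁻¹ * (ψ fEl * g)) *
        ((ψ (x 6))⁻¹ * (ψ fEl * g)) = ψ (x 4) * (ψ (x 6))⁻¹ * ψ fEl * ((ψ (x 6))⁻¹ * ψ fEl) *
        ((ψ (x 6))⁻¹ * ψ fEl) * (g * g * g) := by
      simp only [mul_assoc, (cg _).left_comm]
    rw [e, hy, one_mul, g2, one_mul] at h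
    rw [eg, h, mul_one]
  -- dcd
  obtain ⟨y, hy⟩ := th_um
  obtain ⟨m, hm, em⟩ := hx.split (p := U⁻¹ * ψ mEl * U) (q := ψ y) (by simp [hψ, hU, hy])
  have y2 : y * y = 1 := by
    apply hinj
    rw [map_mul, map_one, hy, show (thX .u)⁻¹ * iota mEl * thX .u *
      ((thX .u)⁻¹ * iota mEl * thX .u) = (thX .u)⁻¹ * (iota mEl * iota mEl) * thX .u by group,
      ← map_mul, mm, map_one]
    group
  have m2 := sqz _ _ m hm mm y2 em
  have y3 : (y * (qEl * x 4)) ^ 3 = 1 := by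
    apply hinj
    rw [map_pow, map_mul, map_one, hy, ← th_uq, ← conj_mul_three, ← map_mul]
    have e : ((thX .u)⁻¹ * iota (mEl * qEl) * thX .u) ^ 3 =
        (thX .u)⁻¹ * iota ((mEl * qEl) ^ 3) * thX .u := by
      simp [map_pow, pow_succ, mul_assoc]
    rw [e, rel_mq, map_one]
    group
  have zm : z * m = 1 := by
    have h := congrArg (fun p => U⁻¹ * ψ p * U) rel_mq
    simp only [map_one, mul_one, inv_mul_cancel, map_pow] at h
    have e : U⁻¹ * ψ (mEl * qEl) ^ 3 * U = (U⁻¹ * ψ (mEl * qEl) * U) ^ 3 := by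
      simp [pow_succ, mul_assoc]
    rw [e, map_mul, conj_mul_three, em, ez,
      show ψ y * m * (ψ (qEl * x 4) * z) = ψ y * (m * ψ (qEl * x 4)) * z by group,
      (hx.cent m hm _).eq,
      show ψ y * (ψ (qEl * x 4) * m) * z = ψ y * ψ (qEl * x 4) * (m * z) by group,
      hx.mul_pow (by simp [hm, hz]), ← map_mul, ← map_pow, y3, map_one, one_mul,
      (hx.cent m hm z).eq] at h
    have hzm2 : (z * m) * (z * m) = 1 := by
      rw [show z * m * (z * m) = z * (m * z) * m by group, (hx.cent m hm z).eq,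
        show z * (z * m) * m = (z * z) * (m * m) by group, z2, m2, one_mul]
    rwa [pow_succ, pow_two, hzm2, one_mul] at h
  exact ⟨ψ, U, ⟨hψ, hU, ut, ua, uc, ue, uf, ratio, z, m, hz, hm, ez, zm, y, em⟩⟩

end H67.ThSchur
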